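import Cfsg.Agent.ExtraExt.Cyclic

/-!
# The base case: a normalised automorphism of odd prime order
-/

namespace Cfsg.Lib.ExtraExt

open Module
open scoped ComplexConjugate
open Cfsg.Lib.Chars

universe u v

/-- A character of a normal subgroup with central image and cyclic quotient extends. -/
theorem exists_extension_hom {P : Type u} [Group P] [Finite P] (K₀ : Subgroup P) (φ : K₀ →* ℂˣ)
    (hn : K₀.Normal) (hφ : ∀ (t : P) (x : K₀), φ ⟨t * x * t⁻¹, hn.conj_mem x x.2 t⟩ = φ x)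
    {Q : Type v} [Group Q] [IsCyclic Q] (r : P →* Q) (hr : r.ker = K₀) :
    ∃ ψ : P →* ℂˣ, ∀ x : K₀, ψ x = φ x := by
  classical
  let N : Subgroup P := φ.ker.map K₀.subtype
  have hNn : N.Normal := ⟨by
    rintro _ ⟨x, hx, rfl⟩ t
    refine ⟨⟨t * x * t⁻¹, hn.conj_mem x x.2 t⟩, ?_, rfl⟩
    show φ _ = 1
    rw [hφ]
    exact hx⟩
  let mk := QuotientGroup.mk' N
  let f : P ⧸ N →* Q := QuotientGroup.lift N r (by
    rintro _ ⟨x, -, rfl⟩
    show (x : P) ∈ r.ker
    rw [hr]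
    exact x.2)
  have hf : f.ker ≤ Subgroup.center _ := by
    intro q hq
    obtain ⟨x, rfl⟩ := QuotientGroup.mk'_surjective N q
    have hx : x ∈ K₀ := hr ▸ hq
    rw [Subgroup.mem_center_iff]
    intro q'
    obtain ⟨t, rfl⟩ := QuotientGroup.mk'_surjective N q'
    rw [← map_mul, ← map_mul]
    refine QuotientGroup.eq.mpr ?_
    refine ⟨⟨(t * x)⁻¹ * (x * t), ?_⟩, ?_, rfl⟩
    · have := K₀.mul_mem (K₀.inv_mem hx) (hn.conj_mem x hx t⁻¹)
      rw [inv_inv] at this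
      rw [show (t * x)⁻¹ * (x * t) = x⁻¹ * (t⁻¹ * x * t) by group]
      exact this
    · have e : (⟨(t * x)⁻¹ * (x * t), by
          rw [show (t * x)⁻¹ * (x * t) = x⁻¹ * (t⁻¹ * x * t⁻¹⁻¹) by group]
          exact K₀.mul_mem (K₀.inv_mem hx) (hn.conj_mem x hx t⁻¹)⟩ : K₀) =
          ⟨x, hx⟩⁻¹ * ⟨t⁻¹ * x * t⁻¹⁻¹, hn.conj_mem x hx t⁻¹⟩ := Subtype.ext (by
            show (t * x)⁻¹ * (x * t) = x⁻¹ * (t⁻¹ * x * t⁻¹⁻¹)
            group)
      show φ _ = 1
      rw [e, map_mul, map_inv, hφ t⁻¹ ⟨x, hx⟩, inv_mul_cancel]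
  let cg : CommGroup (P ⧸ N) := { mul_comm := fun a b => (MonoidHom.isMulCommutative_of_isCyclic_of_ker_le_center f hf).is_comm.comm a b }
  let g : K₀ →* P ⧸ N := mk.comp K₀.subtype
  have hgk : g.ker ≤ φ.ker := by
    intro x hx
    obtain ⟨y, hy, hxy⟩ := (QuotientGroup.eq_one_iff _).mp hx
    rwa [← show y = x from Subtype.ext hxy]
  let κ : g.range →* ℂˣ :=
    (QuotientGroup.lift g.ker φ hgk).comp (QuotientGroup.quotientKerEquivRange g).symm.toMonoidHom
  obtain ⟨ψ, hψ⟩ := MonoidHom.domRestrict_surjective ℂ g.range κ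
  refine ⟨ψ.comp mk, fun x => ?_⟩
  have h1 := DFunLike.congr_fun hψ (QuotientGroup.quotientKerEquivRange g (QuotientGroup.mk x))
  have h2 : κ (QuotientGroup.quotientKerEquivRange g (QuotientGroup.mk x)) = φ x := by
    show QuotientGroup.lift g.ker φ hgk ((QuotientGroup.quotientKerEquivRange g).symm
      (QuotientGroup.quotientKerEquivRange g (QuotientGroup.mk x))) = φ x
    rw [MulEquiv.symm_apply_apply]
    rfl
  rw [h2] at h1
  exact h1

variable {E : Type u} [Group E] [Finite E] {z : E} {S : Type u} [Group S] [Finite S]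

/-- Lifting when the acting two-group normalises a fixed point free cyclic group of prime order. -/
theorem lifts_of_prime (h : Extra E z) (hS : IsPGroup 2 S) (f : S →* MulAut E) (a : MulAut E)
    {l : ℕ} (hl : l.Prime) (hl2 : l ≠ 2) (hal : a ^ l = 1) (ha1 : a ≠ 1)
    (hfix : ∀ x : E, a x = x → x = 1 ∨ x = z)
    (hnorm : ∀ s : S, f s * a * (f s)⁻¹ ∈ Subgroup.zpowers a) : Lifts E z f := by
  classical
  have := Fact.mk hl
  obtain ⟨m, ρ, hirr, hρ, hcard⟩ := h.exists_rep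
  have hord : orderOf a = l := orderOf_eq_prime hal ha1
  have hloddd : Odd l := hl.odd_of_ne_two hl2
  obtain ⟨k, hk⟩ : ∃ k, m = 2 ^ k := by
    have : Fact (Nat.Prime 2) := ⟨Nat.prime_two⟩
    obtain ⟨n, hn⟩ := IsPGroup.iff_card.mp h.isPGroup
    have hd : m ∣ 2 ^ n := ⟨2 * m, by rw [← hn, ← hcard]; ring⟩
    obtain ⟨j, -, hj⟩ := (Nat.dvd_prime_pow Nat.prime_two).mp hd
    exact ⟨j, hj⟩
  have hkerpow : ∀ x : tgroup ρ, tproj ρ x = 1 → x ^ m = 1 := by
    intro x hx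
    obtain ⟨c, hc, hxc⟩ := tnat_ker ρ hx
    refine tgroup_ext ρ (by rw [map_pow, hx, one_pow, map_one]) ?_
    rw [map_pow, hxc, map_one, smul_pow, hc, one_pow, one_smul]
  have hkerc : ∀ x y : tgroup ρ, tproj ρ x = 1 → Commute x y := by
    intro x y hx
    obtain ⟨c, -, hxc⟩ := tnat_ker ρ hx
    refine tgroup_ext ρ (by rw [map_mul, map_mul, hx, one_mul, mul_one]) ?_
    rw [map_mul, map_mul, hxc, smul_mul_assoc, one_mul, mul_smul_comm, mul_one]
  have hcop : Nat.Coprime m l := by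
    rw [hk]
    exact Nat.Coprime.pow_left _ ((Nat.coprime_primes Nat.prime_two hl).mpr (Ne.symm hl2))
  have huniq : ∀ b b' : tgroup ρ, tproj ρ b = tproj ρ b' → b ^ l = 1 → b' ^ l = 1 → b = b' := by
    intro b b' hbb hb hb'
    have hκ : tproj ρ (b' * b⁻¹) = 1 := by rw [map_mul, map_inv, hbb, mul_inv_cancel]
    have h1 : (b' * b⁻¹) ^ l = 1 := by
      have := (hkerc _ b hκ).mul_pow l
      rw [inv_mul_cancel_right, hb', hb, mul_one] at this
      exact this.symm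
    have h2 := pow_gcd_eq_one.mpr ⟨hkerpow _ hκ, h1⟩
    rw [hcop, pow_one, mul_inv_eq_one] at h2
    exact h2.symm
  obtain ⟨ah, hah, hahl⟩ : ∃ ah : tgroup ρ, tproj ρ ah = a ∧ ah ^ l = 1 := by
    obtain ⟨x, hx⟩ := tproj_surjective ρ h hρ a
    obtain ⟨r, hr1, hr2⟩ := Nat.chineseRemainder hcop 0 1
    refine ⟨x ^ r, ?_, ?_⟩
    · rw [map_pow, hx, ← pow_mod_orderOf, hord, hr2, Nat.mod_eq_of_lt hl.one_lt, pow_one]
    · obtain ⟨q, hq⟩ : m ∣ r := Nat.modEq_zero_iff_dvd.mp hr1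
      rw [← pow_mul, hq, show m * q * l = l * m * q by ring, pow_mul, pow_mul,
        hkerpow (x ^ l) (by rw [map_pow, hx, hal]), one_pow]
  have hahord : orderOf ah = l := orderOf_eq_prime hahl fun h1 => ha1 (by rw [← hah, h1, map_one])
  set PT : Subgroup (tgroup ρ) := f.range.comap (tproj ρ) with hPT
  set K : Subgroup (tgroup ρ) :=
    PT ⊓ (Subgroup.centralizer ({a} : Set (MulAut E))).comap (tproj ρ) with hK
  have hKmem : ∀ x, x ∈ K ↔ x ∈ PT ∧ tproj ρ x * a = a * tproj ρ x := fun x => by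
    simp [hK, Subgroup.mem_centralizer_singleton_iff]
  have hconj : ∀ t ∈ PT, ∃ i : ℕ, t * ah * t⁻¹ = ah ^ i ∧ tproj ρ t * a * (tproj ρ t)⁻¹ = a ^ i := by
    intro t ht
    obtain ⟨s, hs⟩ := ht
    obtain ⟨i, hi⟩ := (mem_powers_iff_mem_zpowers (x := a)).mpr (hnorm s)
    have hi' : tproj ρ t * a * (tproj ρ t)⁻¹ = a ^ i := by rw [← hs]; exact hi.symm
    refine ⟨i, huniq _ _ ?_ ?_ ?_, hi'⟩
    · rw [map_mul, map_mul, map_inv, map_pow, hah, hi']
    · rw [conj_pow, hahl, mul_one, mul_inv_cancel]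
    · rw [← pow_mul, mul_comm, pow_mul, hahl, one_pow]
  have hcomm : ∀ x ∈ K, Commute ah x := by
    intro x hx
    have hx2 := ((hKmem x).mp hx).2
    have : x * ah * x⁻¹ = ah := huniq _ _
      (by rw [map_mul, map_mul, map_inv, hah, hx2, mul_inv_cancel_right])
      (by rw [conj_pow, hahl, mul_one, mul_inv_cancel]) hahl
    exact (mul_inv_eq_iff_eq_mul.mp this).symm
  set C : Subgroup (tgroup ρ) := Subgroup.zpowers ah with hC
  have hCK : ∀ (c : C) (x : K), Commute (C.subtype c) (K.subtype x) := by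
    intro c x
    obtain ⟨i, hi⟩ := Subgroup.mem_zpowers_iff.mp c.2
    show Commute (c : tgroup ρ) x
    rw [← hi]
    exact (hcomm x x.2).zpow_left i
  let μ : C × K →* tgroup ρ := MonoidHom.noncommCoprod C.subtype K.subtype hCK
  have hμ : ∀ (c : C) (x : K), μ (c, x) = (c : tgroup ρ) * x := fun c x => rfl
  let F : C × K → ℂ := Representation.character ((tnat ρ).comp μ)
  have hF : Cfsg.IsCharacter (C × K) F := isCharacter_character _
  have hC2 : 2 ≤ Nat.card C := by rw [hC, Nat.card_zpowers, hahord]; exact hl.two_le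
  have hCne : ∀ c : C, c ≠ 1 → ∃ j : ℕ, ¬ l ∣ j ∧ (c : tgroup ρ) = ah ^ j := by
    intro c hc
    obtain ⟨j, hj⟩ := (mem_powers_iff_mem_zpowers (x := ah)).mpr c.2
    refine ⟨j, fun ⟨q, hq⟩ => hc (Subtype.ext ?_), hj.symm⟩
    rw [← hj]
    show ah ^ j = 1
    rw [hq, pow_mul, hahl, one_pow]
  have hnormF : ∀ c : C, c ≠ 1 → ∀ x : K, F (c, x) * conj (F (c, x)) = 1 := by
    intro c hc x
    refine norm_character_tnat ρ h hρ (μ (c, x)) fun w hw => ?_
    obtain ⟨j, hj, hcj⟩ := hCne c hc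
    obtain ⟨⟨s, hs⟩, hcx⟩ := (hKmem (x : tgroup ρ)).mp x.2
    set φ := tproj ρ (μ (c, x)) with hφ
    obtain ⟨N, hN⟩ := hS s
    have hphi2 : (φ ^ 2) w = w := by
      rw [sq, MulAut.mul_apply]
      rcases hw with hw | hw
      · rw [hw, hw]
      · rw [hw, map_mul, h.aut_z, hw, ← mul_assoc, h.sq, one_mul]
    have hpow : ∀ n : ℕ, (φ ^ (2 * n)) w = w := by
      intro n
      induction n with
      | zero => simp
      | succ n ih => rw [Nat.mul_succ, pow_add, MulAut.mul_apply, hphi2, ih]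
    have hbig : φ ^ (2 * 2 ^ N) = a ^ (j * (2 * 2 ^ N)) := by
      have hc' : Commute (a ^ j) (tproj ρ (x : tgroup ρ)) := (show Commute a _ from hcx.symm).pow_left j
      rw [hφ, hμ, map_mul, hcj, map_pow, hah, hc'.mul_pow, ← pow_mul, ← hs, ← map_pow,
        show s ^ (2 * 2 ^ N) = 1 by rw [mul_comm, pow_mul, hN, one_pow], map_one, mul_one]
    have h1 := hpow (2 ^ N)
    rw [hbig] at h1
    have hndvd : Nat.Coprime (j * (2 * 2 ^ N)) l := by
      refine Nat.Coprime.mul_left ((hl.coprime_iff_not_dvd.mpr hj).symm) ?_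
      rw [← pow_succ']
      exact Nat.Coprime.pow_left _ ((Nat.coprime_primes Nat.prime_two hl).mpr (Ne.symm hl2))
    obtain ⟨q, hq⟩ : ∃ q : ℕ, (a ^ (j * (2 * 2 ^ N))) ^ q = a :=
      exists_pow_eq_self_of_coprime (by rwa [hord])
    refine hfix w ?_
    rw [← hq]
    clear hq
    induction q with
    | zero => simp
    | succ q ih => rw [pow_succ, MulAut.mul_apply, h1, ih]
  obtain ⟨φ, hφ⟩ := exists_linear_of_unit_norm
    (fun c d => Subtype.ext (by
      obtain ⟨i, hi⟩ := Subgroup.mem_zpowers_iff.mp c.2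
      obtain ⟨j, hj⟩ := Subgroup.mem_zpowers_iff.mp d.2
      show (c : tgroup ρ) * d = d * c
      rw [← hi, ← hj, ← zpow_add, ← zpow_add, add_comm]))
    hC2 hF hnormF
  have hFne : ∀ c : C, c ≠ 1 → F (c, 1) ≠ 0 := fun c hc h0 => by
    have := hnormF c hc 1
    rw [h0, zero_mul] at this
    exact zero_ne_one this
  let c₀ : C := ⟨ah, Subgroup.mem_zpowers ah⟩
  have hc₀ : c₀ ≠ 1 := fun h0 => ha1 (by
    rw [← hah, show ah = 1 from congrArg Subtype.val h0, map_one])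
  -- the subgroup inside `PT`
  let K₀ : Subgroup PT := K.subgroupOf PT
  let ι : K₀ →* K := (Subgroup.subgroupOfEquivOfLe (inf_le_left : K ≤ PT)).toMonoidHom
  let φ₀ : K₀ →* ℂˣ := φ.comp ι
  have hKn : K₀.Normal := ⟨by
    intro x hx t
    have hx' : (x : tgroup ρ) ∈ K := hx
    show ((t : tgroup ρ) * x * (t : tgroup ρ)⁻¹) ∈ K
    obtain ⟨i, -, hi⟩ := hconj (t : tgroup ρ)⁻¹ (PT.inv_mem t.2)
    rw [hKmem]
    refine ⟨PT.mul_mem (PT.mul_mem t.2 x.2) (PT.inv_mem t.2), ?_⟩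
    have hx2 : Commute (tproj ρ (x : tgroup ρ)) a := ((hKmem _).mp hx').2
    rw [map_inv, inv_inv] at hi
    have hx3 := (hx2.pow_right i).eq
    rw [← hi] at hx3
    set T := tproj ρ (t : tgroup ρ)
    set X := tproj ρ (x : tgroup ρ)
    rw [map_mul, map_mul, map_inv]
    calc T * X * T⁻¹ * a = T * (X * (T⁻¹ * a * T)) * T⁻¹ := by group
      _ = T * ((T⁻¹ * a * T) * X) * T⁻¹ := by rw [hx3]
      _ = a * (T * X * T⁻¹) := by group⟩
  have hinv : ∀ (t : PT) (x : K₀), φ₀ ⟨t * x * t⁻¹, hKn.conj_mem x x.2 t⟩ = φ₀ x := by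
    intro t x
    obtain ⟨i, hi, -⟩ := hconj (t : tgroup ρ) t.2
    let x₁ : K := ι x
    let x₂ : K := ι ⟨t * x * t⁻¹, hKn.conj_mem x x.2 t⟩
    let c₁ : C := ⟨ah ^ i, Subgroup.pow_mem _ (Subgroup.mem_zpowers ah) i⟩
    have hc₁ : c₁ ≠ 1 := by
      intro h1
      have h1' : (t : tgroup ρ) * ah * (t : tgroup ρ)⁻¹ = 1 := hi.trans (congrArg Subtype.val h1)
      rw [mul_inv_eq_one, mul_eq_left] at h1'
      exact hc₀ (Subtype.ext h1')
    have hswap : ∀ y : K, ∀ y' : K, (y' : tgroup ρ) = (t : tgroup ρ) * y * (t : tgroup ρ)⁻¹ →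
        F (c₁, y') = F (c₀, y) := by
      intro y y' hy
      show (tnat ρ).character (μ (c₁, y')) = (tnat ρ).character (μ (c₀, y))
      rw [hμ, hμ, hy, show (c₁ : tgroup ρ) = (t : tgroup ρ) * ah * (t : tgroup ρ)⁻¹ from hi.symm,
        show (t : tgroup ρ) * ah * (t : tgroup ρ)⁻¹ * ((t : tgroup ρ) * y * (t : tgroup ρ)⁻¹) =
          (t : tgroup ρ) * (ah * y) * (t : tgroup ρ)⁻¹ by group]
      exact (tnat ρ).char_conj _ _
    have e1 := hswap x₁ x₂ rfl
    have e2 := hswap 1 1 (by simp)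
    rw [hφ c₁ hc₁ x₂, hφ c₀ hc₀ x₁, e2] at e1
    exact Units.ext (mul_left_cancel₀ (hFne c₀ hc₀) e1)
  have hzc : IsCyclic (Subgroup.zpowers a) := Subgroup.isCyclic_zpowers a
  have hPTn : ∀ t : PT, tproj ρ (t : tgroup ρ) ∈ Subgroup.normalizer
      ((Subgroup.zpowers a : Subgroup (MulAut E)) : Set (MulAut E)) := by
    intro t
    obtain ⟨i, -, hi⟩ := hconj (t : tgroup ρ) t.2
    set T := tproj ρ (t : tgroup ρ)
    have hmap : (Subgroup.zpowers a).map (MulAut.conj T).toMonoidHom = Subgroup.zpowers a := by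
      refine Subgroup.eq_of_le_of_card_ge ?_
        (Subgroup.card_map_of_injective (MulAut.conj T).injective).ge
      rw [MonoidHom.map_zpowers, Subgroup.zpowers_le]
      show T * a * T⁻¹ ∈ _
      rw [hi]
      exact Subgroup.pow_mem _ (Subgroup.mem_zpowers a) i
    rw [Subgroup.mem_normalizer_iff]
    intro y
    refine Iff.trans ?_ (iff_of_eq (congrArg (T * y * T⁻¹ ∈ ·) hmap))
    rw [Subgroup.mem_map]
    exact ⟨fun hy => ⟨y, hy, rfl⟩, fun ⟨w, hw, e⟩ => (MulAut.conj T).injective e ▸ hw⟩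
  let Z := (Subgroup.zpowers a).subgroupOf
    (Subgroup.normalizer ((Subgroup.zpowers a : Subgroup (MulAut E)) : Set (MulAut E)))
  let r : PT →* MulAut Z := MulAut.conjNormal.comp
    (((tproj ρ).comp PT.subtype).codRestrict _ hPTn)
  have hcycA : IsCyclic (MulAut Z) := by
    have hZcard : Nat.card Z = l := by
      rw [Nat.card_congr (Subgroup.subgroupOfEquivOfLe Subgroup.le_normalizer).toEquiv,
        Nat.card_zpowers, hord]
    have : IsCyclic Z := isCyclic_of_prime_card hZcard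
    have e := (IsCyclic.mulAutMulEquiv Z)
    rw [hZcard] at e
    exact MulEquiv.isCyclic e |>.mpr inferInstance
  have hr : r.ker = K₀ := by
    ext t
    rw [MonoidHom.mem_ker, Subgroup.mem_subgroupOf, hKmem]
    constructor
    · intro ht
      refine ⟨t.2, ?_⟩
      have := DFunLike.congr_fun ht
        (⟨⟨a, Subgroup.le_normalizer (Subgroup.mem_zpowers a)⟩, Subgroup.mem_zpowers a⟩ : Z)
      have h2 : tproj ρ (t : tgroup ρ) * a * (tproj ρ (t : tgroup ρ))⁻¹ = a := by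
        have h3 := congrArg Subtype.val (congrArg Subtype.val this)
        exact h3
      exact mul_inv_eq_iff_eq_mul.mp h2
    · rintro ⟨-, ht⟩
      refine MulEquiv.ext fun w => Subtype.ext (Subtype.ext ?_)
      obtain ⟨⟨w, hwn⟩, hwz⟩ := w
      obtain ⟨i, hi⟩ := Subgroup.mem_zpowers_iff.mp (show w ∈ Subgroup.zpowers a from hwz)
      show tproj ρ (t : tgroup ρ) * w * (tproj ρ (t : tgroup ρ))⁻¹ = w
      rw [← hi, ((show Commute _ a from ht).zpow_right i).eq, mul_inv_cancel_right]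
  obtain ⟨ψ, hψ⟩ := exists_extension_hom K₀ φ₀ hKn hinv r hr
  -- the lift
  let U₀ : PT → Module.End ℂ (Fin m → ℂ) := fun x => ((ψ x)⁻¹ : ℂˣ) • tnat ρ (x : tgroup ρ)
  have hU₀ : ∀ x y, U₀ (x * y) = U₀ x * U₀ y := fun x y => by
    simp only [U₀, map_mul, Subgroup.coe_mul, mul_inv, smul_mul_smul_comm]
  have hU₀k : ∀ x : PT, tproj ρ (x : tgroup ρ) = 1 → U₀ x = 1 := by
    intro x hx
    have hxK : (x : tgroup ρ) ∈ K := (hKmem _).mpr ⟨x.2, by rw [hx, one_mul, mul_one]⟩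
    have hψx : ψ x = φ ⟨x, hxK⟩ := hψ ⟨x, hxK⟩
    obtain ⟨c, -, hc⟩ := tnat_ker ρ hx
    have e := hφ c₀ hc₀ ⟨x, hxK⟩
    have e2 : F (c₀, ⟨x, hxK⟩) = c * F (c₀, 1) := by
      show LinearMap.trace ℂ _ (tnat ρ (μ (c₀, ⟨x, hxK⟩))) = c * LinearMap.trace ℂ _ (tnat ρ (μ (c₀, 1)))
      rw [hμ, hμ, OneMemClass.coe_one, mul_one, map_mul, hc, mul_smul_comm, mul_one, map_smul,
        smul_eq_mul]
    rw [e2, mul_comm] at e
    have e3 : c = (φ ⟨x, hxK⟩ : ℂ) := mul_left_cancel₀ (hFne c₀ hc₀) e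
    show ((ψ x)⁻¹ : ℂˣ) • tnat ρ (x : tgroup ρ) = 1
    rw [hc, hψx, Units.smul_def, smul_smul, e3, ← Units.val_mul, inv_mul_cancel, Units.val_one,
      one_smul]
  have hsec : ∀ s : S, ∃ x : PT, tproj ρ (x : tgroup ρ) = f s := fun s => by
    obtain ⟨x, hx⟩ := tproj_surjective ρ h hρ (f s)
    exact ⟨⟨x, s, hx.symm⟩, hx⟩
  choose sec hsec using hsec
  have hkey : ∀ x y : PT, tproj ρ (x : tgroup ρ) = tproj ρ (y : tgroup ρ) → U₀ x = U₀ y := by
    intro x y hxy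
    rw [show U₀ x = U₀ ((x * y⁻¹) * y) by rw [inv_mul_cancel_right], hU₀,
      hU₀k _ (by rw [Subgroup.coe_mul, Subgroup.coe_inv, map_mul, map_inv, hxy, mul_inv_cancel]),
      one_mul]
  let U : S →* Module.End ℂ (Fin m → ℂ) :=
    { toFun := fun s => U₀ (sec s)
      map_one' := hU₀k _ (by rw [hsec, map_one])
      map_mul' := fun s t => by
        rw [← hU₀]
        exact hkey _ _ (by rw [Subgroup.coe_mul, map_mul, hsec, hsec, hsec, map_mul]) }
  let M := (LinearMap.toMatrixAlgEquiv' (R := ℂ) (n := Fin m))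
  refine ⟨Fin m, inferInstance, inferInstance, (M : _ →* _).comp ρ, (M : _ →* _).comp U, ?_, ?_, ?_⟩
  · show M (ρ z) = -1
    rw [hρ, map_neg, map_one]
  · rw [Fintype.card_fin, hcard]
  · intro s e
    show M (U₀ (sec s)) * M (ρ e) = M (ρ (f s e)) * M (U₀ (sec s))
    rw [← map_mul, ← map_mul]
    congr 1
    simp only [U₀]
    rw [smul_mul_assoc, tnat_twist, hsec, mul_smul_comm]

end Cfsg.Lib.ExtraExt
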