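import Mathlib

/-!
# Groups of extraspecial two-type and lifts of their automorphism groups

`Extra E z`: `z` is an involution, commutators lie in `{1, z}` and the centre is `{1, z}`.
-/

namespace Cfsg.Lib.ExtraExt

universe u

variable {E : Type u} [Group E]

/-- `z` is an involution generating both the centre and the derived subgroup. -/
structure Extra (E : Type u) [Group E] (z : E) : Prop where
  ne : z ≠ 1
  sq : z * z = 1
  comm : ∀ x y : E, x * y = y * x ∨ x * y = z * (y * x)
  center : ∀ x : E, (∀ y : E, x * y = y * x) → x = 1 ∨ x = z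

/-- The projective representation of the acting group on the faithful module lifts. -/
def Lifts (E : Type u) [Group E] (z : E) {S : Type*} [Group S] (f : S →* MulAut E) : Prop :=
  ∃ (ι : Type) (_ : Fintype ι) (_ : DecidableEq ι) (ρ : E →* Matrix ι ι ℂ)
    (U : S →* Matrix ι ι ℂ), ρ z = -1 ∧ 2 * Fintype.card ι ^ 2 = Nat.card E ∧
      ∀ (s : S) (e : E), U s * ρ e = ρ (f s e) * U s

variable {z : E}

theorem Extra.mul_comm_z (h : Extra E z) (x : E) : z * x = x * z := by
  rcases h.comm x z with hx | hx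
  · exact hx.symm
  · exfalso
    rw [← mul_assoc, h.sq, one_mul] at hx
    exact h.ne (mul_eq_left.mp hx)

theorem Extra.inv_z (h : Extra E z) : z⁻¹ = z := inv_eq_of_mul_eq_one_right h.sq

theorem Extra.aut_z (h : Extra E z) (φ : MulAut E) : φ z = z := by
  refine (h.center (φ z) fun y => ?_).resolve_left fun h1 => h.ne (by simpa using h1)
  obtain ⟨y, rfl⟩ := φ.surjective y
  rw [← map_mul, ← map_mul, h.mul_comm_z]

theorem Extra.eq_one_or_z_of_mul (h : Extra E z) {a b : E} (ha : a = 1 ∨ a = z)
    (hb : b = 1 ∨ b = z) : a * b = 1 ∨ a * b = z := by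
  rcases ha with rfl | rfl <;> rcases hb with rfl | rfl <;> simp [h.sq]

open Classical in
/-- The commutator sign. -/
noncomputable def sgn (x y : E) : ℂ := if x * y = y * x then 1 else -1

theorem sgn_symm (x y : E) : sgn x y = sgn y x := by
  unfold sgn
  by_cases h : x * y = y * x
  · rw [if_pos h, if_pos h.symm]
  · rw [if_neg h, if_neg (Ne.symm h)]

theorem sgn_eq_one {x y : E} : sgn x y = 1 ↔ x * y = y * x := by
  unfold sgn
  by_cases h : x * y = y * x
  · simp [h]
  · simp only [iff_false, h]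
    norm_num

theorem Extra.sgn_mul (h : Extra E z) (x y w : E) : sgn x (y * w) = sgn x y * sgn x w := by
  have hz : ∀ a : E, z * a ≠ a := fun a ha => h.ne (by simpa using ha)
  have hval : ∀ a b : E, (sgn a b = 1 ∧ a * b = b * a) ∨ (sgn a b = -1 ∧ a * b = z * (b * a)) := by
    intro a b
    rcases h.comm a b with h' | h'
    · exact Or.inl ⟨sgn_eq_one.mpr h', h'⟩
    · refine Or.inr ⟨?_, h'⟩
      unfold sgn
      rw [if_neg fun hc => hz (b * a) (h' ▸ hc)]
  have hzc := h.mul_comm_z
  have key : ∀ a b : E, x * y = a * (y * x) → x * w = b * (w * x) → (b = 1 ∨ b = z) →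
      x * (y * w) = a * b * ((y * w) * x) := by
    intro a b ha hb hb'
    have hcm : y * b = b * y := by
      rcases hb' with rfl | rfl
      · simp
      · exact (hzc y).symm
    rw [← mul_assoc x, ha, mul_assoc a, mul_assoc y, hb, ← mul_assoc y, hcm]
    simp only [mul_assoc]
  rcases hval x y with ⟨hy, hy'⟩ | ⟨hy, hy'⟩ <;> rcases hval x w with ⟨hw, hw'⟩ | ⟨hw, hw'⟩ <;>
    rw [hy, hw] <;> rcases hval x (y * w) with ⟨hb, hb'⟩ | ⟨hb, hb'⟩ <;> rw [hb] <;> try norm_num
  all_goals exfalso
  · have e := key 1 1 (by rwa [one_mul]) (by rwa [one_mul]) (Or.inl rfl)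
    rw [mul_one, one_mul] at e
    exact hz _ (hb'.symm.trans e)
  · have e := key 1 z (by rwa [one_mul]) hw' (Or.inr rfl)
    rw [one_mul] at e
    exact hz _ (e.symm.trans hb')
  · have e := key z 1 hy' (by rwa [one_mul]) (Or.inl rfl)
    rw [mul_one] at e
    exact hz _ (e.symm.trans hb')
  · have e := key z z hy' hw' (Or.inr rfl)
    rw [h.sq, one_mul] at e
    exact hz _ (hb'.symm.trans e)

theorem Extra.sgn_one (x : E) : sgn x (1 : E) = 1 := sgn_eq_one.mpr (by simp)

theorem sgn_aut (φ : MulAut E) (x y : E) : sgn (φ x) (φ y) = sgn x y := by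
  unfold sgn
  have : φ x * φ y = φ y * φ x ↔ x * y = y * x := by
    rw [← map_mul, ← map_mul]; exact φ.injective.eq_iff
  by_cases h : x * y = y * x
  · rw [if_pos h, if_pos (this.mpr h)]
  · rw [if_neg h, if_neg fun h' => h (this.mp h')]

/-- The sign pairing as a homomorphism. -/
noncomputable def Extra.sgnHom (h : Extra E z) (x : E) : E →* ℂ where
  toFun := sgn x
  map_one' := Extra.sgn_one x
  map_mul' := h.sgn_mul x

theorem Extra.sq_mem (h : Extra E z) (x : E) : x * x = 1 ∨ x * x = z := by
  refine h.center _ fun y => ?_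
  have h2 : sgn y (x * x) = 1 := by
    rw [h.sgn_mul]
    unfold sgn
    by_cases hc : y * x = x * y <;> simp [hc]
  exact (sgn_eq_one.mp h2).symm

theorem Extra.isPGroup (h : Extra E z) : IsPGroup 2 E := by
  intro x
  refine ⟨2, ?_⟩
  rw [show x ^ 2 ^ 2 = (x * x) * (x * x) by simp [pow_succ, mul_assoc]]
  rcases h.sq_mem x with hx | hx <;> simp [hx, h.sq]

/-- An odd-order automorphism fixing a coset of `{1, z}` fixes it pointwise. -/
theorem Extra.fix_of_coset (h : Extra E z) {φ : MulAut E} (hφ : Odd (orderOf φ)) {x : E}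
    (hx : φ x = x ∨ φ x = z * x) : φ x = x := by
  refine hx.resolve_right fun hx => ?_
  have hpow : ∀ k : ℕ, (φ ^ (2 * k)) x = x := by
    intro k
    induction k with
    | zero => simp
    | succ k ih =>
      rw [show 2 * (k + 1) = 2 * k + 1 + 1 by ring, pow_succ, MulAut.mul_apply, hx, map_mul, h.aut_z,
        pow_succ, MulAut.mul_apply, hx, map_mul, h.aut_z, ih, ← mul_assoc, h.sq, one_mul]
  obtain ⟨k, hk⟩ := hφ
  have h1 : (φ ^ (2 * k + 1)) x = x := by rw [← hk, pow_orderOf_eq_one]; rfl
  rw [pow_succ, MulAut.mul_apply, hx, map_mul, h.aut_z, hpow] at h1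
  exact h.ne (mul_eq_right.mp h1)

open Classical in
/-- Orthogonality of the commutator pairing. -/
theorem Extra.card_mul_centralizer [Finite E] (h : Extra E z) (E₁ : Subgroup E) (hz : z ∈ E₁) :
    Nat.card E₁ * Nat.card (Subgroup.centralizer (E₁ : Set E)) = 2 * Nat.card E := by
  have := Fintype.ofFinite E
  have h1 : ∀ y : E, (∑ x : E₁, sgn (x : E) y) =
      if y ∈ Subgroup.centralizer (E₁ : Set E) then (Nat.card E₁ : ℂ) else 0 := by
    intro y
    split_ifs with hy
    · rw [Finset.sum_congr rfl fun (x : E₁) _ => sgn_eq_one.mpr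
        (Subgroup.mem_centralizer_iff.mp hy (x : E) x.2)]
      simp
    · rw [Subgroup.mem_centralizer_iff] at hy
      push Not at hy
      obtain ⟨x, hx, hxy⟩ := hy
      have hne : ((h.sgnHom y).comp E₁.subtype) ≠ 1 := fun h1 => by
        have h3 : sgn y x = 1 := DFunLike.congr_fun h1 (⟨x, hx⟩ : E₁)
        exact hxy ((sgn_eq_one.mp h3).symm)
      have := sum_hom_units_eq_zero _ hne
      rw [← this]
      exact Finset.sum_congr rfl fun w _ => sgn_symm _ _
  have h2 : ∀ x : E, (∑ y : E, sgn x y) = if x = 1 ∨ x = z then (Nat.card E : ℂ) else 0 := by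
    intro x
    split_ifs with hx
    · rw [Finset.sum_congr rfl fun y _ => sgn_eq_one.mpr (by
        rcases hx with rfl | rfl
        · simp
        · exact h.mul_comm_z y)]
      simp
    · have hne : h.sgnHom x ≠ 1 := fun h1 => hx (h.center x fun y =>
        sgn_eq_one.mp (DFunLike.congr_fun h1 y))
      exact sum_hom_units_eq_zero _ hne
  have hA : (∑ y : E, ∑ x : E₁, sgn (x : E) y) =
      (Nat.card E₁ : ℂ) * Nat.card (Subgroup.centralizer (E₁ : Set E)) := by
    rw [Finset.sum_congr rfl fun y _ => h1 y, ← Finset.sum_filter, Finset.sum_const, nsmul_eq_mul,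
      ← Fintype.card_subtype, ← Nat.card_eq_fintype_card, mul_comm]
  have hB : (∑ y : E, ∑ x : E₁, sgn (x : E) y) = 2 * (Nat.card E : ℂ) := by
    rw [Finset.sum_comm, Finset.sum_congr rfl fun (x : E₁) _ => h2 (x : E), ← Finset.sum_filter,
      Finset.sum_const, nsmul_eq_mul]
    congr 1
    have hset : (Finset.univ.filter fun x : E₁ => (x : E) = 1 ∨ (x : E) = z) =
        {(1 : E₁), ⟨z, hz⟩} := by
      ext x
      simp only [Finset.mem_filter, Finset.mem_univ, true_and, Finset.mem_insert,
        Finset.mem_singleton, Subtype.ext_iff, OneMemClass.coe_one]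
    rw [hset, Finset.card_pair (fun h0 => h.ne (congrArg Subtype.val h0).symm)]
    norm_num
  exact_mod_cast hA.symm.trans hB

end Cfsg.Lib.ExtraExt
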