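import Cfsg.Agent.ExtraExt.Twisted
import Cfsg.Agent.Chars.Gallagher

/-!
# Lifting in the presence of a normalised fixed point free automorphism of prime order
-/

namespace Cfsg.Lib.ExtraExt

open Module
open scoped ComplexConjugate
open Cfsg.Lib.Chars

universe u v

/-- An integer vector that is not constant has variance at least `card - 1`. -/
theorem variance_bound {I : Type*} [Fintype I] (d : I → ℤ) (h : ∃ i j, d i ≠ d j) :
    (Fintype.card I : ℤ) - 1 ≤ Fintype.card I * (∑ i, d i ^ 2) - (∑ i, d i) ^ 2 := by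
  classical
  obtain ⟨i, j, hij⟩ := h
  obtain ⟨i₀, -, hmin⟩ := Finset.exists_min_image Finset.univ d ⟨i, Finset.mem_univ i⟩
  set e : I → ℤ := fun k => d k - d i₀ with he
  set T := Finset.univ.filter fun k => e k ≠ 0 with hT
  have hsum : (Fintype.card I : ℤ) * (∑ k, d k ^ 2) - (∑ k, d k) ^ 2 =
      Fintype.card I * (∑ k ∈ T, e k ^ 2) - (∑ k ∈ T, e k) ^ 2 := by
    rw [Finset.sum_filter_of_ne (fun k _ hk => by intro h0; apply hk; rw [h0]; ring),
      Finset.sum_filter_of_ne (fun k _ hk => hk)]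
    simp only [he, sub_sq, Finset.sum_add_distrib, Finset.sum_sub_distrib, Finset.sum_const,
      Finset.card_univ, nsmul_eq_mul, ← Finset.sum_mul, ← Finset.mul_sum]
    ring
  rw [hsum]
  have h1 := sq_sum_le_card_mul_sum_sq (s := T) (f := e)
  have hk1 : 1 ≤ T.card := by
    refine Finset.card_pos.mpr ?_
    by_contra hT0
    rw [Finset.not_nonempty_iff_eq_empty] at hT0
    have hall : ∀ k, d k = d i₀ := fun k => by
      by_contra hk
      have : k ∈ T := Finset.mem_filter.mpr ⟨Finset.mem_univ k, sub_ne_zero.mpr hk⟩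
      rw [hT0] at this
      exact absurd this (Finset.notMem_empty _)
    exact hij ((hall i).trans (hall j).symm)
  have hk2 : T.card + 1 ≤ Fintype.card I := by
    refine Finset.card_lt_card (Finset.ssubset_univ_iff.mpr fun hTu => ?_)
    have : i₀ ∈ T := by rw [hTu]; exact Finset.mem_univ _
    exact (Finset.mem_filter.mp this).2 (sub_self _)
  have h2 : (T.card : ℤ) ≤ ∑ k ∈ T, e k ^ 2 := by
    rw [Finset.card_eq_sum_ones, Nat.cast_sum, Nat.cast_one]
    refine Finset.sum_le_sum fun k hk => ?_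
    have := (Finset.mem_filter.mp hk).2
    have : 0 < e k ^ 2 := by positivity
    omega
  have hk2' : (T.card : ℤ) + 1 ≤ Fintype.card I := by exact_mod_cast hk2
  have hk1' : (1 : ℤ) ≤ T.card := by exact_mod_cast hk1
  have h3 := mul_le_mul_of_nonneg_left h2 (by linarith : (0 : ℤ) ≤ Fintype.card I - T.card)
  nlinarith [mul_nonneg (by linarith : (0 : ℤ) ≤ Fintype.card I - T.card - 1)
    (by linarith : (0 : ℤ) ≤ (T.card : ℤ) - 1)]

/-- A family of class functions of norm one whose Fourier transform in the first variable has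
natural coefficients comes from one linear character. -/
theorem exists_linear_of_unit_norm {C : Type u} {K : Type v} [Group C] [Group K] [Finite C]
    [Finite K] (hC : ∀ a b : C, a * b = b * a) (hC2 : 2 ≤ Nat.card C) {F : C × K → ℂ}
    (hF : Cfsg.IsCharacter (C × K) F) (hnorm : ∀ y : C, y ≠ 1 → ∀ x, F (y, x) * conj (F (y, x)) = 1) :
    ∃ φ : K →* ℂˣ, ∀ y : C, y ≠ 1 → ∀ x, F (y, x) = F (y, 1) * (φ x : ℂ) := by
  classical
  have := Fintype.ofFinite C
  have := Fintype.ofFinite K
  have hcf := isClassFunction_isChar hF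
  have hcfy : ∀ y : C, Cfsg.IsClassFunction K (fun x => F (y, x)) := fun y g x => by
    have := hcf (y, g) (1, x)
    simpa using this
  set c : Cfsg.IrrCharacter K → C → ℂ := fun φ y => Cfsg.classInner (fun x => F (y, x)) φ with hc
  have hd : ∀ (φ : Cfsg.IrrCharacter K) (lam : Cfsg.IrrCharacter C),
      ∃ n : ℕ, Cfsg.classInner (c φ) lam = n := by
    intro φ lam
    obtain ⟨n, hn⟩ := IsCharacter.exists_mult hF (isIrrCharacter_prod lam.2 φ.2)
    refine ⟨n, hn ▸ ?_⟩
    simp only [hc, classInner_def]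
    rw [Fintype.sum_prod_type, Nat.card_prod, Nat.cast_mul, mul_inv, mul_assoc, Finset.mul_sum,
      Finset.mul_sum, Finset.mul_sum]
    refine Finset.sum_congr rfl fun y _ => ?_
    simp only [Finset.mul_sum, Finset.sum_mul]
    refine Finset.sum_congr rfl fun x _ => ?_
    rw [map_mul]
    ring
  choose d hd using hd
  have hccf : ∀ φ, Cfsg.IsClassFunction C (c φ) := fun φ g y => by
    rw [hC y g, mul_inv_cancel_right]
  have hexp : ∀ φ, c φ = ∑ lam, (d φ lam : ℂ) • (lam : C → ℂ) := fun φ => by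
    conv_lhs => rw [classFunction_expand (hccf φ)]
    exact Finset.sum_congr rfl fun lam _ => by rw [hd]
  have hlin : ∀ lam : Cfsg.IrrCharacter C, (lam : C → ℂ) 1 = 1 := fun lam =>
    irr_deg_one_of_comm hC lam.2
  have hone : ∀ φ, c φ 1 = ∑ lam, (d φ lam : ℂ) := fun φ => by
    rw [hexp]; simp [Finset.sum_apply, hlin]
  have hpar : ∀ φ, ∑ y, c φ y * conj (c φ y) = (Nat.card C : ℂ) * ∑ lam, (d φ lam : ℂ) ^ 2 := by
    intro φ
    have e : Cfsg.classInner (c φ) (c φ) = ∑ lam, (d φ lam : ℂ) ^ 2 := by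
      conv_lhs => arg 2; rw [hexp]
      rw [classInner_sum_right]
      refine Finset.sum_congr rfl fun lam _ => ?_
      rw [classInner_smul_right, hd, map_natCast, sq]
    rw [← e, classInner_def, mul_inv_cancel_left₀]
    exact_mod_cast (Nat.card_pos (α := C)).ne'
  have hnormsum : ∀ y : C, y ≠ 1 → ∑ φ, c φ y * conj (c φ y) = 1 := by
    intro y hy
    have e : Cfsg.classInner (fun x => F (y, x)) (fun x => F (y, x)) =
        ∑ φ, c φ y * conj (c φ y) := by
      conv_lhs => arg 2; rw [classFunction_expand (hcfy y)]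
      rw [classInner_sum_right]
      refine Finset.sum_congr rfl fun φ _ => ?_
      rw [classInner_smul_right, mul_comm]
    rw [← e, classInner_def, Finset.sum_congr rfl fun x _ => hnorm y hy x]
    simp
  set P : Cfsg.IrrCharacter K → Prop := fun φ => ∃ y, y ≠ 1 ∧ c φ y ≠ 0 with hP
  set w : Cfsg.IrrCharacter K → ℤ := fun φ =>
    (Nat.card C : ℤ) * (∑ lam, (d φ lam : ℤ) ^ 2) - (∑ lam, (d φ lam : ℤ)) ^ 2 with hw
  have hw' : ∀ φ, ∑ y ∈ Finset.univ.erase 1, c φ y * conj (c φ y) = (w φ : ℂ) := by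
    intro φ
    rw [Finset.sum_erase_eq_sub (Finset.mem_univ _), hpar, hone, map_sum]
    simp only [map_natCast, hw]
    push_cast
    ring
  have hwsum : ∑ φ, w φ = (Nat.card C : ℤ) - 1 := by
    have e : ((∑ φ, w φ : ℤ) : ℂ) = (Nat.card C : ℂ) - 1 := by
      push_cast
      rw [← Finset.sum_congr rfl fun φ _ => hw' φ, Finset.sum_comm,
        Finset.sum_congr rfl fun y hy => hnormsum y (Finset.ne_of_mem_erase hy), Finset.sum_const,
        Finset.card_erase_of_mem (Finset.mem_univ _), Finset.card_univ, ← Nat.card_eq_fintype_card,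
        nsmul_eq_mul, mul_one, Nat.cast_sub (by omega), Nat.cast_one]
    exact_mod_cast e
  have hCirr : Nat.card (Cfsg.IrrCharacter C) = Nat.card C := by
    let cg : CommGroup C := { mul_comm := hC }
    rw [card_irrCharacter]
    exact Nat.card_congr ConjClasses.mkEquiv.symm
  have hbig : ∀ φ, P φ → (Nat.card C : ℤ) - 1 ≤ w φ := by
    rintro φ ⟨y, hy, hcy⟩
    have hvb := variance_bound (fun lam => (d φ lam : ℤ)) ?_
    · rw [← Nat.card_eq_fintype_card, hCirr] at hvb
      exact hvb
    · by_contra hcon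
      push Not at hcon
      have h0 : (w φ : ℂ) = 0 := by
        obtain ⟨l₀⟩ : Nonempty (Cfsg.IrrCharacter C) := by
          rw [← Finite.card_pos_iff, hCirr]; omega
        have : w φ = 0 := by
          simp only [hw]
          rw [Finset.sum_congr rfl fun lam _ => hcon lam l₀,
            Finset.sum_congr rfl fun lam _ => congrArg (· ^ 2) (hcon lam l₀), Finset.sum_const,
            Finset.sum_const, Finset.card_univ, ← Nat.card_eq_fintype_card, hCirr, nsmul_eq_mul,
            nsmul_eq_mul]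
          ring
        rw [this]; simp
      rw [← hw'] at h0
      have hre : ∑ y ∈ Finset.univ.erase 1, Complex.normSq (c φ y) = 0 := by
        have := congrArg Complex.re h0
        simpa [Complex.re_sum, Complex.mul_conj] using this
      rw [Finset.sum_eq_zero_iff_of_nonneg fun _ _ => Complex.normSq_nonneg _] at hre
      exact hcy (Complex.normSq_eq_zero.mp (hre y (Finset.mem_erase.mpr ⟨hy, Finset.mem_univ _⟩)))
  have hwnn : ∀ φ, 0 ≤ w φ := fun φ => by
    have e := hw' φ
    have : (0 : ℝ) ≤ (w φ : ℝ) := by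
      have e2 := congrArg Complex.re e
      simp only [Complex.re_sum, Complex.mul_conj, Complex.ofReal_re, Complex.intCast_re] at e2
      rw [← e2]
      exact Finset.sum_nonneg fun _ _ => Complex.normSq_nonneg _
    exact_mod_cast this
  obtain ⟨y₁, hy₁⟩ : ∃ y : C, y ≠ 1 := by
    have : Nontrivial C := Finite.one_lt_card_iff_nontrivial.mp (by omega)
    exact exists_ne 1
  obtain ⟨φ, hφ⟩ : ∃ φ, P φ := by
    by_contra hcon
    push Not at hcon
    have := hnormsum y₁ hy₁
    rw [Finset.sum_eq_zero fun φ _ => by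
      by_contra h0
      exact hcon φ ⟨y₁, hy₁, left_ne_zero_of_mul h0⟩] at this
    exact zero_ne_one this
  have huniq : ∀ ψ, ψ ≠ φ → ∀ y : C, y ≠ 1 → c ψ y = 0 := by
    intro ψ hne y hy
    by_contra h0
    have h1 := hbig φ hφ
    have h2 := hbig ψ ⟨y, hy, h0⟩
    have h3 : w ψ + w φ ≤ ∑ χ, w χ := by
      rw [← Finset.sum_pair hne]
      exact Finset.sum_le_sum_of_subset_of_nonneg (Finset.subset_univ _) fun χ _ _ => hwnn χ
    have h4 : (2 : ℤ) ≤ Nat.card C := by exact_mod_cast hC2
    linarith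
  have hFeq : ∀ y : C, y ≠ 1 → ∀ x, F (y, x) = c φ y * (φ : K → ℂ) x := by
    intro y hy x
    rw [classFunction_expand_apply (hcfy y) x, Finset.sum_eq_single φ
      (fun ψ _ hne => by
        have h0 := huniq ψ hne y hy
        simp only [hc] at h0
        rw [h0, zero_mul])
      (fun h => absurd (Finset.mem_univ _) h)]
  have hdeg : (φ : K → ℂ) 1 = 1 := by
    obtain ⟨n, hn, h1⟩ := IsIrrCharacter.apply_one φ.2
    have h2 := hnorm y₁ hy₁ 1
    have h3 : c φ y₁ * conj (c φ y₁) = 1 := by
      rw [← hnormsum y₁ hy₁, Finset.sum_eq_single φ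
        (fun ψ _ hne => by rw [huniq ψ hne y₁ hy₁, zero_mul])
        (fun h => absurd (Finset.mem_univ _) h)]
    rw [hFeq y₁ hy₁, h1, map_mul, map_natCast, mul_mul_mul_comm, h3, one_mul] at h2
    have h5 : n * n = 1 := by exact_mod_cast h2
    rw [h1, Nat.eq_one_of_mul_eq_one_left h5, Nat.cast_one]
  obtain ⟨f, hf⟩ := exists_hom_of_deg_one (isCharacter_of_irr φ.2) hdeg
  refine ⟨f, fun y hy x => ?_⟩
  rw [hFeq y hy, hFeq y hy 1, hdeg, mul_one]
  congr 1
  rw [hf]

end Cfsg.Lib.ExtraExt
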