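import Cfsg.Agent.ExtraExt.Main
import Cfsg.Agent.Chars.ExtCriteria
import Cfsg.Agent.Coprime.Basic
import Cfsg.Prelude.Def_Transfer

/-!
# The extension theorem
-/

namespace Cfsg.Lib.ExtraExt

open Module
open scoped ComplexConjugate commutatorElement
open Cfsg.Lib.Chars

universe u

variable {G : Type u} [Group G] [Finite G]

/-- An extraspecial two-group is of the shape `Extra`. -/
theorem exists_extra {E : Type u} [Group E] [Finite E] (hE : Cfsg.IsExtraspecial 2 E) :
    ∃ z : E, Extra E z := by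
  obtain ⟨x, y, hxy, hset⟩ := Nat.card_eq_two_iff.mp hE.2
  have hall : ∀ w : Subgroup.center E, w = x ∨ w = y := fun w => by
    have : w ∈ ({x, y} : Set (Subgroup.center E)) := hset.symm ▸ Set.mem_univ w
    simpa using this
  obtain ⟨z, hz1, hz⟩ : ∃ z : Subgroup.center E, z ≠ 1 ∧ ∀ w, w = 1 ∨ w = z := by
    rcases hall 1 with h1 | h1
    · exact ⟨y, fun h => hxy (h1.symm.trans h.symm), fun w => (hall w).imp_left (fun e => e.trans h1.symm)⟩
    · exact ⟨x, fun h => hxy (h.trans h1), fun w => (hall w).symm.imp_left (fun e => e.trans h1.symm)⟩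
  have hz' : ∀ w ∈ Subgroup.center E, w = 1 ∨ w = (z : E) := fun w hw =>
    (hz ⟨w, hw⟩).imp (congrArg Subtype.val) (congrArg Subtype.val)
  refine ⟨z, fun h => hz1 (Subtype.ext h), ?_, fun a b => ?_, fun a ha => ?_⟩
  · exact congrArg Subtype.val ((hz (z * z)).resolve_right fun h => hz1 (mul_eq_left.mp h))
  · have hm : ⁅a, b⁆ ∈ Subgroup.center E := by
      rw [← hE.1.2.2, commutator_def]
      exact Subgroup.commutator_mem_commutator (Subgroup.mem_top a) (Subgroup.mem_top b)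
    rcases hz' _ hm with h | h
    · exact Or.inl (commutatorElement_eq_one_iff_mul_comm.mp h)
    · refine Or.inr ?_
      rw [← h, commutatorElement_def]
      group
  · exact hz' a (Subgroup.mem_center_iff.mpr fun g => (ha g).symm)

/-- In a faithful irreducible representation the central involution is `-1`. -/
theorem rep_z_neg {E : Type u} [Group E] {z : E} (h : Extra E z) {V : Type*}
    [AddCommGroup V] [Module ℂ V] [FiniteDimensional ℂ V] (ρ : Representation ℂ E V)
    [ρ.IsIrreducible] (hne : ρ.character z ≠ ρ.character 1) : ρ z = -1 := by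
  obtain ⟨c, hc⟩ := schur_scalar ρ (ρ z) fun g v => by
    rw [← Module.End.mul_apply, ← Module.End.mul_apply, ← map_mul, ← map_mul, h.mul_comm_z]
  have hc1 : c ≠ 1 := fun h1 => hne (by
    rw [Representation.character, Representation.character, hc, h1, one_smul, map_one]; rfl)
  have := nontrivial_of_irreducible ρ
  obtain ⟨v, hv⟩ := exists_ne (0 : V)
  have hcc : c * c = 1 := by
    have h2 : ρ z * ρ z = 1 := by rw [← map_mul, h.sq, map_one]
    rw [hc, smul_mul_smul_comm] at h2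
    exact smul_left_injective ℂ hv (show (c * c) • v = (1 : ℂ) • v by
      simpa using LinearMap.congr_fun h2 v)
  rw [hc, (mul_self_eq_one_iff.mp hcc).resolve_left hc1]
  exact neg_one_smul ℂ (1 : Module.End ℂ V)

omit [Finite G] in
/-- Gluing homomorphisms on a semidirect product inside a group. -/
theorem exists_glue {M : Type*} [Monoid M] (N T : Subgroup G) [hN : N.Normal] (hNT : N ⊓ T = ⊥)
    (a : N →* M) (b : T →* M)
    (hab : ∀ (t : T) (n : N), b t * a n = a ⟨t * n * (t : G)⁻¹, hN.conj_mem n n.2 t⟩ * b t) :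
    ∃ R : ↥(N ⊔ T) →* M, ∀ (n : N), R ⟨n, Subgroup.mem_sup_left n.2⟩ = a n := by
  classical
  have hdec : ∀ g : ↥(N ⊔ T), ∃ p : N × T, (g : G) = p.1 * p.2 := by
    intro g
    have h := g.2
    rw [← SetLike.mem_coe, Subgroup.normal_mul] at h
    obtain ⟨n, hn, t, ht, e⟩ := h
    exact ⟨(⟨n, hn⟩, ⟨t, ht⟩), e.symm⟩
  choose d hd using hdec
  have huniq : ∀ p q : N × T, (p.1 : G) * p.2 = q.1 * q.2 → p = q := by
    intro p q h
    have h1 : (q.1 : G)⁻¹ * p.1 = q.2 * (p.2 : G)⁻¹ := by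
      rw [eq_mul_inv_iff_mul_eq, mul_assoc, h, inv_mul_cancel_left]
    have hbot : (q.1 : G)⁻¹ * p.1 ∈ N ⊓ T :=
      ⟨N.mul_mem (N.inv_mem q.1.2) p.1.2, h1 ▸ T.mul_mem q.2.2 (T.inv_mem p.2.2)⟩
    rw [hNT, Subgroup.mem_bot] at hbot
    rw [hbot, eq_comm, mul_inv_eq_one] at h1
    exact Prod.ext (Subtype.ext (inv_mul_eq_one.mp hbot).symm) (Subtype.ext h1.symm)
  refine ⟨⟨⟨fun g => a (d g).1 * b (d g).2, ?_⟩, fun g g' => ?_⟩, fun n => ?_⟩
  · rw [show d 1 = (1, 1) from huniq _ _ (by rw [← hd]; simp), map_one, map_one, one_mul]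
  · show a _ * b _ = (a _ * b _) * (a _ * b _)
    rw [show d (g * g') = ((d g).1 * ⟨(d g).2 * (d g').1 * ((d g).2 : G)⁻¹,
        hN.conj_mem _ (d g').1.2 _⟩, (d g).2 * (d g').2) from huniq _ _ (by
      rw [← hd, Subgroup.coe_mul, hd g, hd g']
      simp only [Subgroup.coe_mul]
      group), map_mul, map_mul, mul_assoc (a (d g).1) (b (d g).2),
      ← mul_assoc (b (d g).2) (a (d g').1), hab]
    simp only [mul_assoc]
  · show a _ * b _ = _
    rw [show d ⟨n, Subgroup.mem_sup_left n.2⟩ = (n, 1) from huniq _ _ (by rw [← hd]; simp), map_one,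
      mul_one]

/-- A faithful character of an extraspecial normal two-subgroup extends over a complement that has
an odd normal subgroup acting without fixed points. -/
theorem extends_of_odd_normal (E H : Subgroup G) [E.Normal] (hE : Cfsg.IsExtraspecial 2 ↥E)
    (hEH : E ⊓ H = ⊥) (hEHtop : E ⊔ H = ⊤) (K : Subgroup G) (hKH : K ≤ H)
    (hKn : ∀ h ∈ H, ∀ k ∈ K, h * k * h⁻¹ ∈ K) (hKodd : Odd (Nat.card ↥K)) (hEK : ⁅E, K⁆ = E)
    (θ : Cfsg.IrrCharacter ↥E)
    (hθ : ∀ e : ↥E, (θ : ↥E → ℂ) e = (θ : ↥E → ℂ) 1 → e = 1) :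
    ∃ χ : Cfsg.IrrCharacter G, ∀ e : ↥E, (χ : G → ℂ) e = (θ : ↥E → ℂ) e := by
  classical
  obtain ⟨z, hz⟩ := exists_extra hE
  obtain ⟨m, σ, hirr, hσc⟩ := θ.2
  have hσz : σ z = -1 := rep_z_neg hz σ fun e => hz.ne (hθ z (by rw [← hσc]; exact e))
  have hcard : 2 * m ^ 2 = Nat.card E := by
    have := hz.card_eq σ hσz; rwa [finrank_fin_fun] at this
  -- the action
  let cj : H →* MulAut E := MulAut.conjNormal.comp H.subtype
  have hcj : ∀ (g : H) (e : E), ((cj g e : E) : G) = g * e * (g : G)⁻¹ := fun g e =>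
    MulAut.conjNormal_apply (g : G) e
  let A : Subgroup (MulAut E) := (K.subgroupOf H).map cj
  have hAodd : Odd (Nat.card A) := by
    refine hKodd.of_dvd_nat (((K.subgroupOf H).card_map_dvd cj).trans ?_)
    exact (Nat.card_congr (Subgroup.subgroupOfEquivOfLe hKH).toEquiv).dvd
  have hfix : ∀ x : E, (∀ a ∈ A, a x = x) → x = 1 ∨ x = z := by
    intro x hx
    refine hz.center x fun y => ?_
    have hle : ⁅E, K⁆ ≤ (E ⊓ Subgroup.centralizer {(x : G)}) := by
      rw [Subgroup.commutator_le]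
      intro e he k hk
      have hw : ⁅e, k⁆ = ((⟨e, he⟩ * cj ⟨k, hKH hk⟩ (⟨e, he⟩ : E)⁻¹ : E) : G) := by
        rw [Subgroup.coe_mul, hcj, commutatorElement_def]
        simp [mul_assoc]
      rw [hw]
      refine ⟨Subtype.prop _, Subgroup.mem_centralizer_singleton_iff.mpr ?_⟩
      have hs : sgn x (⟨e, he⟩ * cj ⟨k, hKH hk⟩ (⟨e, he⟩ : E)⁻¹) = 1 := by
        rw [hz.sgn_mul]
        conv_lhs => arg 2; rw [← hx _ ⟨⟨k, hKH hk⟩, hk, rfl⟩, sgn_aut]
        rw [← hz.sgn_mul, mul_inv_cancel]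
        exact Extra.sgn_one x
      exact (congrArg Subtype.val (sgn_eq_one.mp hs)).symm
    rw [hEK] at hle
    exact Subtype.ext (Subgroup.mem_centralizer_singleton_iff.mp (hle y.2).2).symm
  obtain ⟨S₀⟩ : Nonempty (Sylow 2 H) := inferInstance
  set S : Subgroup H := (S₀ : Subgroup H) with hS
  obtain ⟨ι, _, _, ρ', U', hz', hd', hU'⟩ := lifts_main hz S₀.2 (cj.comp S.subtype) A hAodd
    (by
      rintro s _ ⟨k, hk, rfl⟩
      refine ⟨(s : H) * k * (s : H)⁻¹, ?_, by rw [map_mul, map_mul, map_inv]; rfl⟩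
      exact hKn (s : H) (s : H).2 k hk) hfix
  let L := (Matrix.toLinAlgEquiv' (R := ℂ) (n := ι))
  let σ' : Representation ℂ E (ι → ℂ) := (↑L : Matrix ι ι ℂ →* Module.End ℂ (ι → ℂ)).comp ρ'
  have hσ' : σ' z = -1 := by
    show L (ρ' z) = -1
    rw [hz', map_neg, map_one]
  have hdim : finrank ℂ (ι → ℂ) = finrank ℂ (Fin m → ℂ) := by
    rw [finrank_fintype_fun_eq_card, finrank_fin_fun]
    have : Fintype.card ι ^ 2 = m ^ 2 := by omega
    exact Nat.pow_left_injective (by norm_num) this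
  obtain ⟨ψ⟩ := hz.nonempty_equiv σ' σ hσ' hσz hdim
  let C := ψ.toLinearEquiv.conjAlgEquiv ℂ
  let U : S →* Module.End ℂ (Fin m → ℂ) := ((↑C : Module.End ℂ (ι → ℂ) →* Module.End ℂ (Fin m → ℂ)).comp (↑L : Matrix ι ι ℂ →* Module.End ℂ (ι → ℂ))).comp U'
  have hC : ∀ e, C (σ' e) = σ e := fun e => ψ.conj_apply_self e
  have hU : ∀ (s : S) (e : E), U s * σ e = σ (cj s e) * U s := by
    intro s e
    show C (L (U' s)) * σ e = σ (cj s e) * C (L (U' s))
    rw [← hC, ← hC, ← map_mul, ← map_mul]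
    congr 1
    show L (U' s) * L (ρ' e) = L (ρ' (cj s e)) * L (U' s)
    rw [← map_mul, ← map_mul, hU']
    rfl
  -- invariance
  have hcharinv : ∀ φ : MulAut E, ∀ e, σ.character (φ e) = σ.character e := by
    intro φ
    let τ : Representation ℂ E (Fin m → ℂ) := σ.comp φ.toMonoidHom
    have hτ : τ z = -1 := by show σ (φ z) = -1; rw [hz.aut_z, hσz]
    obtain ⟨ω⟩ := hz.nonempty_equiv τ σ hτ hσz rfl
    exact fun e => congrFun (Representation.char_iso ω) e
  have hinv : ∀ g : G, conjN E g σ.character = σ.character := fun g => funext fun e => by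
    show σ.character _ = σ.character e
    rw [← hcharinv (MulAut.conjNormal g) e]
    exact congrArg σ.character (Subtype.ext (MulAut.conjNormal_apply g e).symm)
  -- the determinant
  let dt : E →* ℂ := (LinearMap.det : Module.End ℂ (Fin m → ℂ) →* ℂ).comp σ
  have hdt : ∀ (φ : MulAut E) (e : E), dt (φ e) = dt e := by
    intro φ e
    let τ : Representation ℂ E (Fin m → ℂ) := σ.comp φ.toMonoidHom
    have hτ : τ z = -1 := by show σ (φ z) = -1; rw [hz.aut_z, hσz]
    obtain ⟨ω⟩ := hz.nonempty_equiv τ σ hτ hσz rfl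
    show LinearMap.det (τ e) = LinearMap.det (σ e)
    rw [← ω.conj_apply_self e]
    exact (LinearMap.det_conj _ ω.toLinearEquiv).symm
  obtain ⟨μ₀, hμ₀⟩ := exists_glue E H hEH (MonoidHom.toHomUnits dt) (1 : H →* ℂˣ) (fun t n => by
    apply Units.ext
    rw [MonoidHom.one_apply, one_mul, mul_one, MonoidHom.coe_toHomUnits, MonoidHom.coe_toHomUnits,
      ← hdt (cj t) n]
    exact congrArg dt (Subtype.ext (hcj t n)))
  let μ : G →* ℂˣ := μ₀.comp ((MonoidHom.id G).codRestrict (E ⊔ H) (fun g => hEHtop ▸ Subgroup.mem_top g))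
  have hμ : ∀ n : E, (μ n : ℂ) = LinearMap.det (σ n) := fun n => congrArg Units.val (hμ₀ n)
  -- the subgroup of odd index
  let T : Subgroup G := S.map H.subtype
  have hTH : T ≤ H := Subgroup.map_subtype_le S
  have hET : E ⊓ T = ⊥ := le_bot_iff.mp ((inf_le_inf_left E hTH).trans hEH.le)
  obtain ⟨R, hR⟩ := exists_glue E T hET σ
    (U.comp (Subgroup.equivMapOfInjective S H.subtype H.subtype_injective).symm.toMonoidHom)
    (fun t n => by
      set s : S := (Subgroup.equivMapOfInjective S H.subtype H.subtype_injective).symm t with hs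
      have hst : ((s : H) : G) = t := congrArg Subtype.val
        ((Subgroup.equivMapOfInjective S H.subtype H.subtype_injective).apply_symm_apply t)
      show U s * σ n = _ * U s
      rw [hU]
      congr 2
      apply Subtype.ext
      rw [hcj, hst])
  have hidx : (E ⊔ T).index = S.index := by
    have h1 : Nat.card ↥(E ⊔ T) = Nat.card E * Nat.card T :=
      Cfsg.Lib.Coprime.card_sup_of_inf_eq_bot (by rw [Subgroup.normalizer_eq_top]; exact le_top) hET
    have h2 : Nat.card G = Nat.card E * Nat.card H := by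
      rw [← Subgroup.card_top, ← hEHtop]
      exact Cfsg.Lib.Coprime.card_sup_of_inf_eq_bot (by rw [Subgroup.normalizer_eq_top]; exact le_top) hEH
    have h3 := Subgroup.card_mul_index (E ⊔ T)
    have h4 := Subgroup.card_mul_index S
    have h5 : Nat.card T = Nat.card S := Subgroup.card_map_of_injective H.subtype_injective
    rw [h1, h2, h5, ← h4, mul_assoc] at h3
    exact Nat.eq_of_mul_eq_mul_left Nat.card_pos (Nat.eq_of_mul_eq_mul_left Nat.card_pos h3)
  have hs1 := hasSplit_of_subgroup E σ hinv (E ⊔ T) le_sup_left R hR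
  have hs2 := hasSplit_finrank E σ μ hμ
  have hcop : Nat.Coprime (E ⊔ T).index (finrank ℂ (Fin m → ℂ)) := by
    rw [hidx, finrank_fin_fun]
    have : Fact (Nat.Prime 2) := ⟨Nat.prime_two⟩
    obtain ⟨n, hn⟩ := IsPGroup.iff_card.mp hz.isPGroup
    obtain ⟨j, -, rfl⟩ := (Nat.dvd_prime_pow Nat.prime_two).mp
      (show m ∣ 2 ^ n from ⟨2 * m, by rw [← hn, ← hcard]; ring⟩)
    exact Nat.Coprime.pow_right _ ((Nat.prime_two.coprime_iff_not_dvd.mpr S₀.not_dvd_index).symm)
  have hsplit : HasSplit E σ 1 := by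
    have h := (splitExponents E σ).add_mem
      ((splitExponents E σ).zsmul_mem hs1 (Nat.gcdA (E ⊔ T).index (finrank ℂ (Fin m → ℂ))))
      ((splitExponents E σ).zsmul_mem hs2 (Nat.gcdB (E ⊔ T).index (finrank ℂ (Fin m → ℂ))))
    have hb := Nat.gcd_eq_gcd_ab (E ⊔ T).index (finrank ℂ (Fin m → ℂ))
    rw [show Nat.gcd (E ⊔ T).index (finrank ℂ (Fin m → ℂ)) = 1 from hcop] at hb
    rw [smul_eq_mul, smul_eq_mul, mul_comm _ ((E ⊔ T).index : ℤ),
      mul_comm _ (finrank ℂ (Fin m → ℂ) : ℤ), ← hb, Nat.cast_one] at h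
    exact h
  obtain ⟨RR, hRR⟩ := exists_extension_of_hasSplit E σ hinv hsplit
  obtain ⟨hirrR, hres⟩ := exists_irr_ext_of_rep E σ RR hRR
  exact ⟨⟨RR.character, hirrR⟩, fun e => (hres e).trans (congrFun hσc e)⟩

end Cfsg.Lib.ExtraExt
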