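import Cfsg.Agent.ExtraExt.Product

/-!
# Fixed subgroups of odd groups of automorphisms
-/

set_option linter.unusedVariables false

namespace Cfsg.Lib.ExtraExt

universe u

variable {E : Type u} [Group E] {z : E}

/-- Common fixed points. -/
def fixSub (B : Subgroup (MulAut E)) : Subgroup E where
  carrier := {x | ∀ b ∈ B, b x = x}
  one_mem' := fun b _ => map_one b
  mul_mem' := fun {x y} hx hy b hb => by rw [map_mul, hx b hb, hy b hb]
  inv_mem' := fun {x} hx b hb => by rw [map_inv, hx b hb]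

theorem mem_fixSub {B : Subgroup (MulAut E)} {x : E} : x ∈ fixSub B ↔ ∀ b ∈ B, b x = x := Iff.rfl

theorem Extra.z_mem_fixSub (h : Extra E z) (B : Subgroup (MulAut E)) : z ∈ fixSub B :=
  fun b _ => h.aut_z b

/-- The conjugate of a group of automorphisms. -/
def conjSub (φ : MulAut E) (B : Subgroup (MulAut E)) : Subgroup (MulAut E) :=
  B.map (MulAut.conj φ).toMonoidHom

theorem mem_conjSub {φ : MulAut E} {B : Subgroup (MulAut E)} {g : MulAut E} :
    g ∈ conjSub φ B ↔ ∃ b ∈ B, φ * b * φ⁻¹ = g := Iff.rfl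

theorem conjSub_mul (φ ψ : MulAut E) (B : Subgroup (MulAut E)) :
    conjSub (φ * ψ) B = conjSub φ (conjSub ψ B) := by
  rw [conjSub, conjSub, conjSub, Subgroup.map_map]
  congr 1

theorem conjSub_one (B : Subgroup (MulAut E)) : conjSub 1 B = B := by
  ext g
  simp [mem_conjSub]

theorem map_mem_fixSub {φ : MulAut E} {B : Subgroup (MulAut E)} {x : E} (hx : x ∈ fixSub B) :
    φ x ∈ fixSub (conjSub φ B) := by
  rintro _ ⟨b, hb, rfl⟩
  show (φ * b * φ⁻¹) (φ x) = φ x
  rw [MulAut.mul_apply, MulAut.mul_apply, MulAut.inv_apply_self, hx b hb]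

/-- Nondegenerate subgroups containing `z`. -/
def ND (z : E) (W : Subgroup E) : Prop :=
  z ∈ W ∧ ∀ x ∈ W, (∀ y ∈ W, x * y = y * x) → x = 1 ∨ x = z

theorem ND.extra (h : Extra E z) {W : Subgroup E} (hW : ND z W) : Extra W ⟨z, hW.1⟩ where
  ne h0 := h.ne (congrArg Subtype.val h0)
  sq := Subtype.ext h.sq
  comm x y := (h.comm (x : E) y).imp (fun e => Subtype.ext e) (fun e => Subtype.ext e)
  center x hx := (hW.2 x x.2 fun y hy => congrArg Subtype.val (hx ⟨y, hy⟩)).imp
    (fun e => Subtype.ext e) (fun e => Subtype.ext e)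

theorem ND.inter_centralizer {W : Subgroup E} (hW : ND z W) {x : E} (hx : x ∈ W)
    (hx' : ∀ y ∈ W, x * y = y * x) : x = 1 ∨ x = z := hW.2 x hx hx'

variable [Finite E]

/-- A group of automorphisms of odd prime exponent preserving the noncommuting part of a subgroup
fixes one of its points. -/
theorem Extra.exists_fixed_noncomm (h : Extra E z) {l : ℕ} (hl : l.Prime) (hl2 : l ≠ 2)
    {P : Subgroup (MulAut E)} (hP : IsPGroup l P) (x : E) (W : Subgroup E)
    (hinv : ∀ p ∈ P, ∀ w ∈ W, x * w ≠ w * x → p w ∈ W ∧ x * p w ≠ p w * x)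
    (hne : ∃ w ∈ W, x * w ≠ w * x) :
    ∃ w ∈ W, x * w ≠ w * x ∧ ∀ p ∈ P, p w = w := by
  classical
  obtain ⟨w₀, hw₀, hxw₀⟩ := hne
  let Y := {w : E // w ∈ W ∧ x * w ≠ w * x}
  let act : MulAction P Y :=
    { smul := fun p w => ⟨(p : MulAut E) w.1, hinv p p.2 w.1 w.2.1 w.2.2⟩
      one_smul := fun w => Subtype.ext rfl
      mul_smul := fun p q w => Subtype.ext rfl }
  have hsgn : ∀ w, x * w ≠ w * x → sgn x w = -1 := fun w hw => by rw [sgn, if_neg hw]
  let C : Subgroup E := W ⊓ Subgroup.centralizer {x}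
  have hC : ∀ w, w ∈ C ↔ w ∈ W ∧ sgn x w = 1 := fun w => by
    rw [Subgroup.mem_inf, Subgroup.mem_centralizer_singleton_iff, sgn_eq_one]
    exact and_congr Iff.rfl eq_comm
  let e : Y ≃ C :=
    { toFun := fun w => ⟨w₀⁻¹ * w.1, (hC _).mpr ⟨W.mul_mem (W.inv_mem hw₀) w.2.1, by
        have e1 := h.sgn_mul x w₀ (w₀⁻¹ * w.1)
        rw [mul_inv_cancel_left, hsgn _ w.2.2, hsgn _ hxw₀] at e1
        linear_combination e1⟩⟩
      invFun := fun c => ⟨w₀ * c.1, W.mul_mem hw₀ ((hC _).mp c.2).1, fun he => by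
        have e1 := h.sgn_mul x w₀ c.1
        rw [sgn_eq_one.mpr he, hsgn _ hxw₀, ((hC _).mp c.2).2] at e1
        norm_num at e1⟩
      left_inv := fun w => Subtype.ext (mul_inv_cancel_left _ _)
      right_inv := fun c => Subtype.ext (inv_mul_cancel_left _ _) }
  have hnd : ¬ l ∣ Nat.card Y := by
    rw [Nat.card_congr e]
    have : Fact (Nat.Prime 2) := ⟨Nat.prime_two⟩
    obtain ⟨k, hk⟩ := IsPGroup.iff_card.mp (h.isPGroup.to_subgroup C)
    rw [hk]
    exact fun hd => hl2 ((Nat.prime_dvd_prime_iff_eq hl Nat.prime_two).mp (hl.dvd_of_dvd_pow hd))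
  have := Fact.mk hl
  obtain ⟨w, hw⟩ := hP.nonempty_fixed_point_of_prime_not_dvd_card Y hnd
  exact ⟨w.1, w.2.1, w.2.2, fun p hp => congrArg Subtype.val (hw ⟨p, hp⟩)⟩

theorem Extra.fixSub_ND (h : Extra E z) {l : ℕ} (hl : l.Prime) (hl2 : l ≠ 2)
    {B : Subgroup (MulAut E)} (hB : IsPGroup l B) : ND z (fixSub B) := by
  refine ⟨h.z_mem_fixSub B, fun x hx hcomm => h.center x fun y => ?_⟩
  by_contra hy
  obtain ⟨w, -, hw, hfix⟩ := h.exists_fixed_noncomm hl hl2 hB x ⊤ (fun p hp w _ hw =>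
    ⟨Subgroup.mem_top _, fun e => hw (by
      rw [← hx p hp, ← map_mul, ← map_mul] at e
      exact p.injective e)⟩) ⟨y, Subgroup.mem_top y, hy⟩
  exact hw (hcomm w hfix)

/-- Fixed subgroups of two complementary subgroups commute. -/
theorem Extra.fixSub_comm (h : Extra E z) {l : ℕ} (hl : l.Prime) (hl2 : l ≠ 2)
    {A B B' : Subgroup (MulAut E)} (hA : IsPGroup l A) (hab : ∀ a ∈ A, ∀ b ∈ A, a * b = b * a)
    (hB : B ≤ A) (hB' : B' ≤ A) (hsup : B ⊔ B' = A)
    (hfix : ∀ x, (∀ a ∈ A, a x = x) → x = 1 ∨ x = z) :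
    ∀ x ∈ fixSub B, ∀ y ∈ fixSub B', x * y = y * x := by
  intro x hx y hy
  by_contra hxy
  let Stb : Subgroup (MulAut E) :=
    { carrier := {g | g ∈ A ∧ ∀ w ∈ fixSub B', (g w ∈ fixSub B' ∧ sgn x (g w) = sgn x w)}
      one_mem' := ⟨A.one_mem, fun w hw => ⟨hw, rfl⟩⟩
      mul_mem' := fun {a b} ha hb => ⟨A.mul_mem ha.1 hb.1, fun w hw =>
        ⟨(ha.2 _ (hb.2 w hw).1).1, (ha.2 _ (hb.2 w hw).1).2.trans (hb.2 w hw).2⟩⟩
      inv_mem' := fun {a} ha => ⟨A.inv_mem ha.1, fun w hw => by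
        have h1 : a⁻¹ w ∈ fixSub B' := fun b hb => by
          show (b * a⁻¹) w = a⁻¹ w
          rw [hab b (hB' hb) a⁻¹ (A.inv_mem ha.1), MulAut.mul_apply, hw b hb]
        refine ⟨h1, ?_⟩
        have := (ha.2 _ h1).2
        rw [MulAut.apply_inv_self] at this
        exact this.symm⟩ }
  have hle : A ≤ Stb := by
    rw [← hsup, sup_le_iff]
    refine ⟨fun b hb => ⟨hB hb, fun w hw => ⟨fun b' hb' => ?_, ?_⟩⟩,
      fun b hb => ⟨hB' hb, fun w hw => by rw [hw b hb]; exact ⟨hw, rfl⟩⟩⟩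
    · show (b' * b) w = b w
      rw [hab b' (hB' hb') b (hB hb), MulAut.mul_apply, hw b' hb']
    · conv_lhs => rw [← hx b hb, sgn_aut]
  obtain ⟨w, hw, hxw, hfw⟩ := h.exists_fixed_noncomm hl hl2 hA x (fixSub B') (fun p hp w hw hxw =>
    ⟨((hle hp).2 w hw).1, fun e => hxw (sgn_eq_one.mp (by
      rw [← ((hle hp).2 w hw).2, sgn_eq_one]; exact e))⟩) ⟨y, hy, hxy⟩
  rcases hfix w hfw with rfl | rfl
  · exact hxw (by simp)
  · exact hxw (h.mul_comm_z x).symm

omit [Finite E] in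
open Classical in
/-- A group of type `l × l` has a nonidentity element with a noncentral fixed point. -/
theorem Extra.exists_fixed_pair (h : Extra E z) {l : ℕ} (hl : l.Prime) (hl2 : l ≠ 2)
    (a b : MulAut E) (ha : a ^ l = 1) (hb : b ^ l = 1) (hab : Commute a b) {x : E}
    (hx : ¬ (x = 1 ∨ x = z)) :
    ∃ u w : ℕ, u < l ∧ w < l ∧ ¬ (u = 0 ∧ w = 0) ∧
      ∃ y : E, (a ^ u * b ^ w) y = y ∧ ¬ (y = 1 ∨ y = z) := by
  have := Fact.mk hl
  by_contra hcon
  push Not at hcon
  let g : ZMod l → ZMod l → MulAut E := fun u w => a ^ u.val * b ^ w.val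
  have hpow : ∀ (c : MulAut E), c ^ l = 1 → ∀ p q : ZMod l, c ^ (p + q).val = c ^ p.val * c ^ q.val := by
    intro c hc p q
    rw [ZMod.val_add, ← pow_add, ← pow_eq_pow_mod _ hc]
  have hgadd : ∀ p q r s, g p q * g r s = g (p + r) (q + s) := by
    intro p q r s
    simp only [g]
    rw [hpow a ha, hpow b hb]
    exact (hab.symm.pow_pow q.val r.val).mul_mul_mul_comm _ _
  have hgodd : ∀ p q, Odd (orderOf (g p q)) := by
    intro p q
    have h1 : (g p q) ^ l = 1 := by
      simp only [g]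
      rw [(hab.pow_pow p.val q.val).mul_pow, ← pow_mul, ← pow_mul, mul_comm p.val, mul_comm q.val,
        pow_mul, pow_mul, ha, hb, one_pow, one_pow, mul_one]
    exact (hl.odd_of_ne_two hl2).of_dvd_nat (orderOf_dvd_of_pow_eq_one h1)
  set Z := Subgroup.center E with hZ
  have hzZ : ∀ y : E, y ∈ Z ↔ y = 1 ∨ y = z := fun y => by
    rw [hZ, Subgroup.mem_center_iff]
    constructor
    · exact fun hy => h.center y fun w => (hy w).symm
    · rintro (rfl | rfl) w
      · simp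
      · exact (h.mul_comm_z w).symm
  let cg : CommGroup (E ⧸ Z) :=
    { mul_comm := fun p q => by
        induction p using QuotientGroup.induction_on with | _ p =>
        induction q using QuotientGroup.induction_on with | _ q =>
        rw [← QuotientGroup.mk_mul, ← QuotientGroup.mk_mul]
        refine QuotientGroup.eq.mpr ((hzZ _).mpr ?_)
        rcases h.comm p q with e | e
        · left; rw [e, inv_mul_cancel]
        · right; rw [e, h.mul_comm_z, mul_inv_rev, mul_assoc, inv_mul_cancel, mul_one, h.inv_z] }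
  let act : MulAut E → (E ⧸ Z) →* (E ⧸ Z) := fun φ =>
    QuotientGroup.map Z Z φ.toMonoidHom fun y hy => by
      rcases (hzZ y).mp hy with rfl | rfl
      · simp
      · show φ y ∈ Z
        rw [h.aut_z]
        exact hy
  have hact : ∀ φ : MulAut E, ∀ y : E, act φ (y : E ⧸ Z) = ((φ y : E) : E ⧸ Z) := fun φ y => rfl
  have hfix : ∀ p q, ¬ (p = 0 ∧ q = 0) → ∀ T : E ⧸ Z, act (g p q) T = T → T = 1 := by
    intro p q hpq T hT
    induction T using QuotientGroup.induction_on with | _ y =>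
    rw [hact, QuotientGroup.eq] at hT
    have hy : g p q y = y := h.fix_of_coset (hgodd p q) (by
      rcases (hzZ _).mp hT with e | e
      · exact Or.inl (inv_mul_eq_one.mp e)
      · refine Or.inr ?_
        rw [inv_mul_eq_iff_eq_mul] at e
        rw [h.mul_comm_z]
        conv_rhs => rw [e, mul_assoc, h.sq, mul_one])
    refine (QuotientGroup.eq_one_iff y).mpr ((hzZ y).mpr ?_)
    refine hcon p.val q.val p.val_lt q.val_lt (fun hp hq => ?_) y hy
    exact hpq ⟨(ZMod.val_eq_zero p).mp hp, (ZMod.val_eq_zero q).mp hq⟩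
  let F : ZMod l → ZMod l → E ⧸ Z := fun u w => ((g u w x : E) : E ⧸ Z)
  have hFg : ∀ p q r s, act (g p q) (F r s) = F (p + r) (q + s) := by
    intro p q r s
    show ((g p q (g r s x) : E) : E ⧸ Z) = _
    rw [← MulAut.mul_apply, hgadd]
  have hTinf : ∏ w, F 0 w = 1 := hfix 0 1 (fun e => one_ne_zero e.2) _ (by
    rw [map_prod, Finset.prod_congr rfl fun w _ => hFg 0 1 0 w, add_zero]
    exact Fintype.prod_equiv (Equiv.addLeft 1) _ _ fun w => rfl)
  have hTi : ∀ i, ∏ u, F u (i * u) = 1 := fun i => hfix 1 i (fun e => one_ne_zero e.1) _ (by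
    rw [map_prod]
    refine Fintype.prod_equiv (Equiv.addLeft 1) _ _ fun u => ?_
    rw [hFg, Equiv.coe_addLeft, mul_add, mul_one])
  have hall : ∏ u, ∏ w, F u w = 1 := hfix 1 0 (fun e => one_ne_zero e.1) _ (by
    rw [map_prod]
    refine Fintype.prod_equiv (Equiv.addLeft 1) _ _ fun u => ?_
    rw [map_prod]
    exact Finset.prod_congr rfl fun w _ => by rw [hFg, Equiv.coe_addLeft, zero_add])
  have hrest : ∏ u ∈ Finset.univ.erase (0 : ZMod l), ∏ w, F u w = 1 := by
    rw [← Finset.mul_prod_erase _ _ (Finset.mem_univ (0 : ZMod l)), hTinf, one_mul] at hall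
    exact hall
  have hsum : ∏ u, ∏ i, F u (i * u) = 1 := by
    rw [Finset.prod_comm]
    exact Finset.prod_eq_one fun i _ => hTi i
  rw [← Finset.mul_prod_erase _ _ (Finset.mem_univ (0 : ZMod l)),
    Finset.prod_congr rfl fun i _ => congrArg (F 0) (mul_zero i), Finset.prod_const,
    Finset.card_univ, ZMod.card,
    Finset.prod_congr rfl fun u hu => Fintype.prod_equiv
      (Equiv.mulRight₀ u (Finset.ne_of_mem_erase hu)) (fun i => F u (i * u)) (F u) fun i => rfl,
    hrest, mul_one] at hsum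
  have hF0 : F 0 0 = (x : E ⧸ Z) := by simp [F, g]
  rw [hF0] at hsum
  apply hx
  rw [← hzZ]
  refine (QuotientGroup.eq_one_iff x).mp ?_
  have h2 : ((x : E ⧸ Z)) ^ 2 = 1 := by
    rw [← QuotientGroup.mk_pow, QuotientGroup.eq_one_iff, hzZ, pow_two]
    exact h.sq_mem x
  have h3 := pow_gcd_eq_one.mpr ⟨h2, hsum⟩
  rwa [(Nat.coprime_primes Nat.prime_two hl).mpr (Ne.symm hl2), pow_one] at h3

end Cfsg.Lib.ExtraExt
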