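import Cfsg.Agent.ExtraExt.Base
import Cfsg.Agent.ExtraExt.Fixed
import Cfsg.Agent.OddChar.PF.OddOrder

/-!
# Lifting of a two-group normalising a fixed point free odd group of automorphisms
-/

set_option linter.unusedVariables false

namespace Cfsg.Lib.ExtraExt

universe u

/-- A one-dimensional lift. -/
theorem lifts_center {E : Type u} [Group E] [Finite E] {z : E} (h : Extra E z) {S : Type*} [Group S]
    (f : S →* MulAut E) (hall : ∀ x : E, x = 1 ∨ x = z) : Lifts E z f := by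
  classical
  let ρ : E →* Matrix Unit Unit ℂ :=
    { toFun := fun e => if e = 1 then 1 else -1
      map_one' := if_pos rfl
      map_mul' := fun a b => by
        rcases hall a with rfl | rfl <;> rcases hall b with rfl | rfl <;> simp [h.sq, h.ne] }
  refine ⟨Unit, inferInstance, inferInstance, ρ, 1, if_neg h.ne, ?_, fun s e => ?_⟩
  · rw [Fintype.card_unit, one_pow, mul_one]
    refine ((Nat.card_eq_two_iff (α := E)).mpr ⟨1, z, h.ne.symm, ?_⟩).symm
    ext x
    simpa using hall x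
  · have hfe : f s e = e := by
      rcases hall e with rfl | rfl
      · exact map_one _
      · exact h.aut_z _
    rw [hfe, MonoidHom.one_apply, one_mul, mul_one]

section Step

variable {E : Type u} [Group E] [Finite E] {z : E}

/-- The hypothesis passed to smaller groups. -/
def IH (n : ℕ) : Prop :=
  ∀ (E' : Type u) [Group E'] [Finite E'] (z' : E'), Extra E' z' → Nat.card E' < n →
    ∀ (S : Type u) [Group S] [Finite S], IsPGroup 2 S → ∀ (f : S →* MulAut E')
      (A : Subgroup (MulAut E')), Odd (Nat.card A) →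
      (∀ s : S, ∀ a ∈ A, f s * a * (f s)⁻¹ ∈ A) →
      (∀ x : E', (∀ a ∈ A, a x = x) → x = 1 ∨ x = z') → Lifts E' z' f

theorem lifts_invariant {S : Type u} [Group S] [Finite S] (h : Extra E z) (hS : IsPGroup 2 S)
    (ih : IH.{u} (Nat.card E)) (f : S →* MulAut E) (A : Subgroup (MulAut E))
    (hA : Odd (Nat.card A)) (hnorm : ∀ s : S, ∀ a ∈ A, f s * a * (f s)⁻¹ ∈ A)
    (hfix : ∀ x : E, (∀ a ∈ A, a x = x) → x = 1 ∨ x = z) {W : Subgroup E} (hW : ND z W)
    (hlt : W ≠ ⊤) (hs : ∀ s : S, f s ∈ stab W) (ha : A ≤ stab W) :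
    Lifts W ⟨z, hW.1⟩ ((res W).comp (f.codRestrict _ hs)) := by
  refine ih W ⟨z, hW.1⟩ (hW.extra h) ?_ S hS _ ((A.subgroupOf (stab W)).map (res W)) ?_ ?_ ?_
  · refine lt_of_le_of_ne (Subgroup.card_le_card_group W) fun e => hlt ?_
    exact Subgroup.eq_top_of_card_eq _ e
  · refine hA.of_dvd_nat (((A.subgroupOf (stab W)).card_map_dvd (res W)).trans ?_)
    exact (Nat.card_congr (Subgroup.subgroupOfEquivOfLe ha).toEquiv).dvd
  · rintro s _ ⟨a, ha', rfl⟩
    refine ⟨f.codRestrict _ hs s * a * (f.codRestrict _ hs s)⁻¹, ?_, ?_⟩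
    · exact hnorm s a ha'
    · rw [map_mul, map_mul, map_inv]; rfl
  · intro x hx
    refine (hfix x fun a ha' => ?_).imp (fun e => Subtype.ext e) (fun e => Subtype.ext e)
    exact congrArg Subtype.val (hx (res W ⟨a, ha ha'⟩) ⟨⟨a, ha ha'⟩, ha', rfl⟩)

theorem lifts_split {S : Type u} [Group S] [Finite S] (h : Extra E z) (hS : IsPGroup 2 S)
    (ih : IH.{u} (Nat.card E)) (f : S →* MulAut E) (A : Subgroup (MulAut E))
    (hA : Odd (Nat.card A)) (hnorm : ∀ s : S, ∀ a ∈ A, f s * a * (f s)⁻¹ ∈ A)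
    (hfix : ∀ x : E, (∀ a ∈ A, a x = x) → x = 1 ∨ x = z) {W : Subgroup E} (hW : ND z W)
    (hlt : W ≠ ⊤) (hbig : ∃ x ∈ W, ¬ (x = 1 ∨ x = z)) (hs : ∀ s : S, f s ∈ stab W)
    (ha : A ≤ stab W) : Lifts E z f := by
  set W₂ := Subgroup.centralizer (W : Set E) with hW₂
  have hz2 : z ∈ W₂ := Subgroup.mem_centralizer_iff.mpr fun y _ => (h.mul_comm_z y).symm
  have hc : ∀ x ∈ W, ∀ y ∈ W₂, x * y = y * x := fun x hx y hy =>
    Subgroup.mem_centralizer_iff.mp hy x hx
  have hi : ∀ x ∈ W, x ∈ W₂ → x = 1 ∨ x = z := fun x hx hx2 =>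
    hW.2 x hx fun y hy => (hc y hy x hx2).symm
  have hsup : W ⊔ W₂ = ⊤ := by
    refine Subgroup.eq_top_of_card_eq _ ?_
    have h1 := h.card_mul_centralizer W hW.1
    have h2 := h.card_sup hc hW.1 hz2 hi
    rw [h1] at h2
    omega
  have hND2 : ND z W₂ := by
    refine ⟨hz2, fun x hx hx' => h.center x fun y => ?_⟩
    have hle : (⊤ : Subgroup E) ≤ Subgroup.centralizer {x} := by
      rw [← hsup, sup_le_iff]
      exact ⟨fun y hy => Subgroup.mem_centralizer_singleton_iff.mpr (hc y hy x hx),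
        fun y hy => Subgroup.mem_centralizer_singleton_iff.mpr (hx' y hy).symm⟩
    exact (Subgroup.mem_centralizer_singleton_iff.mp (hle (Subgroup.mem_top y))).symm
  have hlt2 : W₂ ≠ ⊤ := by
    obtain ⟨x, hx, hxn⟩ := hbig
    exact fun e => hxn (hi x hx (e ▸ Subgroup.mem_top x))
  have hstab : ∀ φ ∈ stab W, φ ∈ stab W₂ := by
    intro φ hφ
    refine mem_stab_of_forall fun y hy => Subgroup.mem_centralizer_iff.mpr fun w hw => ?_
    have h1 : φ⁻¹ w ∈ W := ((stab W).inv_mem hφ w).mpr hw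
    have h2 := congrArg φ (hc _ h1 y hy)
    rwa [map_mul, map_mul, MulAut.apply_inv_self] at h2
  exact lifts_prod h f hc hW.1 hz2 hi hsup hs (fun s => hstab _ (hs s))
    (lifts_invariant h hS ih f A hA hnorm hfix hW hlt hs ha)
    (lifts_invariant h hS ih f A hA hnorm hfix hND2 hlt2 _ (fun a ha' => hstab _ (ha ha')))

/-- The join of the fixed subgroups of a family. -/
def joinFix (z : E) (O : Finset (Subgroup (MulAut E))) : Subgroup E :=
  Subgroup.zpowers z ⊔ O.sup fixSub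

omit [Finite E] in
theorem joinFix_le {O : Finset (Subgroup (MulAut E))} {W : Subgroup E} (hz : z ∈ W)
    (hO : ∀ B ∈ O, fixSub B ≤ W) : joinFix z O ≤ W :=
  sup_le (Subgroup.zpowers_le.mpr hz) (Finset.sup_le hO)

omit [Finite E] in
theorem mem_joinFix_z (O : Finset (Subgroup (MulAut E))) : z ∈ joinFix z O :=
  Subgroup.mem_sup_left (Subgroup.mem_zpowers z)

omit [Finite E] in
theorem fixSub_le_joinFix {O : Finset (Subgroup (MulAut E))} {B : Subgroup (MulAut E)} (hB : B ∈ O) :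
    fixSub B ≤ joinFix z O := (Finset.le_sup hB).trans le_sup_right

omit [Finite E] in
theorem joinFix_comm (h : Extra E z) {O O' : Finset (Subgroup (MulAut E))}
    (hc : ∀ B ∈ O, ∀ B' ∈ O', ∀ x ∈ fixSub B, ∀ y ∈ fixSub B', x * y = y * x) :
    ∀ x ∈ joinFix z O, ∀ y ∈ joinFix z O', x * y = y * x := by
  intro x hx y hy
  have hzc : ∀ W : Subgroup E, z ∈ Subgroup.centralizer (W : Set E) := fun W =>
    Subgroup.mem_centralizer_iff.mpr fun w _ => (h.mul_comm_z w).symm
  have h1 : ∀ B ∈ O, ∀ u ∈ joinFix z O', ∀ v ∈ fixSub B, v * u = u * v := by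
    intro B hB u hu v hv
    have : joinFix z O' ≤ Subgroup.centralizer (fixSub B : Set E) :=
      joinFix_le (hzc _) fun B' hB' w hw =>
        Subgroup.mem_centralizer_iff.mpr fun v hv => hc B hB B' hB' v hv w hw
    exact Subgroup.mem_centralizer_iff.mp (this hu) v hv
  have h2 : joinFix z O ≤ Subgroup.centralizer (joinFix z O' : Set E) :=
    joinFix_le (hzc _) fun B hB v hv =>
      Subgroup.mem_centralizer_iff.mpr fun u hu => (h1 B hB u hu v hv).symm
  exact (Subgroup.mem_centralizer_iff.mp (h2 hx) y hy).symm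

omit [Finite E] in
theorem joinFix_ND (h : Extra E z) (O : Finset (Subgroup (MulAut E)))
    (hnd : ∀ B ∈ O, ND z (fixSub B))
    (hc : ∀ B ∈ O, ∀ B' ∈ O, B ≠ B' → ∀ x ∈ fixSub B, ∀ y ∈ fixSub B', x * y = y * x) :
    ND z (joinFix z O) := by
  classical
  induction O using Finset.induction with
  | empty =>
    refine ⟨mem_joinFix_z _, fun x hx _ => ?_⟩
    simp only [joinFix, Finset.sup_empty, sup_bot_eq] at hx
    obtain ⟨k, rfl⟩ := Subgroup.mem_zpowers_iff.mp hx
    rcases Int.even_or_odd k with ⟨j, hj⟩ | ⟨j, hj⟩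
    · left; rw [hj, ← two_mul, zpow_mul, zpow_two, h.sq, one_zpow]
    · right; rw [hj, zpow_add, zpow_mul, zpow_two, h.sq, one_zpow, one_mul, zpow_one]
  | insert B O hBO ih =>
    have hndO := ih (fun B' hB' => hnd B' (Finset.mem_insert_of_mem hB'))
      (fun B' hB' B'' hB'' => hc B' (Finset.mem_insert_of_mem hB') B'' (Finset.mem_insert_of_mem hB''))
    have hndB := hnd B (Finset.mem_insert_self B O)
    have hcomm : ∀ v ∈ fixSub B, ∀ w ∈ joinFix z O, v * w = w * v := by
      intro v hv w hw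
      have : joinFix z O ≤ Subgroup.centralizer {v} :=
        joinFix_le (Subgroup.mem_centralizer_singleton_iff.mpr (h.mul_comm_z v))
          fun B' hB' u hu => Subgroup.mem_centralizer_singleton_iff.mpr
            (hc B (Finset.mem_insert_self B O) B' (Finset.mem_insert_of_mem hB')
              (fun e => hBO (e ▸ hB')) v hv u hu).symm
      exact (Subgroup.mem_centralizer_singleton_iff.mp (this hw)).symm
    refine ⟨mem_joinFix_z _, fun x hx hx' => ?_⟩
    have hle : joinFix z (insert B O) ≤ fixSub B ⊔ joinFix z O :=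
      joinFix_le (Subgroup.mem_sup_left hndB.1) fun B' hB' => by
        rcases Finset.mem_insert.mp hB' with rfl | hB'
        · exact le_sup_left
        · exact (fixSub_le_joinFix hB').trans le_sup_right
    have hnorm : fixSub B ≤ Subgroup.normalizer (joinFix z O : Set E) := by
      intro v hv
      rw [Subgroup.mem_normalizer_iff]
      intro w
      constructor <;> intro hw
      · rwa [hcomm v hv w hw, mul_inv_cancel_right]
      · have e := hcomm v hv _ hw
        have e2 : v * w * v⁻¹ = w := mul_left_cancel (a := v) (e.trans (inv_mul_cancel_right _ _))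
        rwa [e2] at hw
    obtain ⟨v, hv, w, hw, rfl⟩ : ∃ v ∈ fixSub B, ∃ w ∈ joinFix z O, v * w = x := by
      have h3 := hle hx
      rw [← SetLike.mem_coe, Subgroup.coe_mul_of_left_le_normalizer_right _ _ hnorm] at h3
      exact h3
    have hwz : w = 1 ∨ w = z := hndO.2 w hw fun u hu => by
      have hu' : u ∈ joinFix z (insert B O) :=
        joinFix_le (mem_joinFix_z _) (fun B' hB' => fixSub_le_joinFix (Finset.mem_insert_of_mem hB')) hu
      have e := hx' u hu'
      rw [mul_assoc, ← mul_assoc u, ← hcomm v hv u hu, mul_assoc v u] at e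
      exact mul_left_cancel e
    have hwc : ∀ u : E, w * u = u * w := fun u => by
      rcases hwz with rfl | rfl
      · simp
      · exact h.mul_comm_z u
    refine h.eq_one_or_z_of_mul (hndB.2 v hv fun u hu => ?_) hwz
    have e := hx' u (fixSub_le_joinFix (Finset.mem_insert_self B O) hu)
    rw [mul_assoc, hwc, ← mul_assoc, ← mul_assoc] at e
    exact mul_right_cancel e

end Step

theorem lifts_main_aux (n : ℕ) : ∀ (E : Type u) [Group E] [Finite E] (z : E), Extra E z →
    Nat.card E = n → ∀ (S : Type u) [Group S] [Finite S], IsPGroup 2 S → ∀ (f : S →* MulAut E)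
      (k : ℕ) (A : Subgroup (MulAut E)), Nat.card A = k → Odd (Nat.card A) →
      (∀ s : S, ∀ a ∈ A, f s * a * (f s)⁻¹ ∈ A) →
      (∀ x : E, (∀ a ∈ A, a x = x) → x = 1 ∨ x = z) → Lifts E z f := by
  induction n using Nat.strong_induction_on with
  | _ n ihn =>
  intro E _ _ z h hn S _ _ hS f k
  induction k using Nat.strong_induction_on with
  | _ k ihk =>
  intro A hk hA hnorm hfix
  classical
  have ih : IH.{u} (Nat.card E) := fun E' _ _ z' h' hlt S' _ _ hS' f' A' hA' hn' hf' =>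
    ihn _ (hn ▸ hlt) E' z' h' rfl S' hS' f' _ A' rfl hA' hn' hf'
  by_cases hAb : A = ⊥
  · refine lifts_center h f fun x => hfix x fun a ha => ?_
    rw [hAb, Subgroup.mem_bot] at ha
    rw [ha, MulAut.one_apply]
  -- a minimal invariant subgroup
  let Inv : Subgroup (MulAut E) → Prop := fun D =>
    D ≤ A ∧ D ≠ ⊥ ∧ (∀ a ∈ A, ∀ d ∈ D, a * d * a⁻¹ ∈ D) ∧ ∀ s : S, ∀ d ∈ D, f s * d * (f s)⁻¹ ∈ D
  obtain ⟨D, hDmin⟩ := Set.Finite.exists_minimal (Set.toFinite {D | Inv D})
    ⟨A, le_rfl, hAb, fun a ha d hd => A.mul_mem (A.mul_mem ha hd) (A.inv_mem ha), hnorm⟩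
  obtain ⟨hDA, hDb, hDn, hDs⟩ : Inv D := hDmin.prop
  have hDodd : Odd (Nat.card D) := hA.of_dvd_nat (Subgroup.card_dvd_of_le hDA)
  have hmin : ∀ D' ≤ D, Inv D' → D' = D := fun D' hle hI => le_antisymm hle (hDmin.le_of_le hI hle)
  -- abelian
  have hDab : ∀ a ∈ D, ∀ b ∈ D, a * b = b * a := by
    have hlt : ⁅D, D⁆ < D := by
      have : Group.IsSolvable D := Cfsg.Agent.PF.isSolvable_of_odd D hDodd
      have : Nontrivial D := (Subgroup.nontrivial_iff_ne_bot D).mpr hDb
      rw [← D.range_subtype, MonoidHom.range_eq_map, ← Subgroup.map_commutator,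
        Subgroup.map_subtype_lt_map_subtype]
      exact Group.IsSolvable.commutator_lt_top_of_nontrivial D
    have hbot : ⁅D, D⁆ = ⊥ := by
      by_contra hne
      refine hlt.ne (hmin _ hlt.le ⟨hlt.le.trans hDA, hne, fun a ha d hd => ?_, fun s d hd => ?_⟩)
      · have hmap : D.map (MulAut.conj a).toMonoidHom ≤ D := by
          rintro _ ⟨b, hb, rfl⟩; exact hDn a ha b hb
        exact (Subgroup.map_commutator D D (MulAut.conj a).toMonoidHom).trans_le
          (Subgroup.commutator_mono hmap hmap) ⟨d, hd, rfl⟩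
      · have hmap : D.map (MulAut.conj (f s)).toMonoidHom ≤ D := by
          rintro _ ⟨b, hb, rfl⟩; exact hDs s b hb
        exact (Subgroup.map_commutator D D (MulAut.conj (f s)).toMonoidHom).trans_le
          (Subgroup.commutator_mono hmap hmap) ⟨d, hd, rfl⟩
    intro a ha b hb
    exact Subgroup.mem_centralizer_iff.mp
      (Subgroup.commutator_eq_bot_iff_le_centralizer.mp hbot hb) a ha
  obtain ⟨l, hl, hld⟩ := Nat.exists_prime_and_dvd
    (fun e => hDb (Subgroup.eq_bot_of_card_eq D e))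
  have hl2 : l ≠ 2 := fun e => by
    subst e
    exact (Nat.not_even_iff_odd.mpr hDodd) (even_iff_two_dvd.mpr hld)
  have := Fact.mk hl
  have hexp : ∀ d ∈ D, d ^ l = 1 := by
    let T : Subgroup (MulAut E) :=
      { carrier := {d | d ∈ D ∧ d ^ l = 1}
        one_mem' := ⟨D.one_mem, one_pow l⟩
        mul_mem' := fun {a b} ha hb => ⟨D.mul_mem ha.1 hb.1, by
          rw [(show Commute a b from hDab a ha.1 b hb.1).mul_pow, ha.2, hb.2, one_mul]⟩
        inv_mem' := fun {a} ha => ⟨D.inv_mem ha.1, by rw [inv_pow, ha.2, inv_one]⟩ }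
    obtain ⟨d, hd⟩ := exists_prime_orderOf_dvd_card' (G := D) l hld
    have hTne : T ≠ ⊥ := fun e => by
      have hdl : (d : MulAut E) ^ l = 1 := by
        rw [← SubmonoidClass.coe_pow, ← hd, pow_orderOf_eq_one]; rfl
      have : (d : MulAut E) ∈ T := ⟨d.2, hdl⟩
      rw [e, Subgroup.mem_bot] at this
      exact hl.one_lt.ne' (hd ▸ orderOf_eq_one_iff.mpr (Subtype.ext this))
    have := hmin T (fun d hd => hd.1) ⟨fun d hd => hDA hd.1, hTne,
      fun a ha d hd => ⟨hDn a ha d hd.1, by rw [conj_pow, hd.2, mul_one, mul_inv_cancel]⟩,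
      fun s d hd => ⟨hDs s d hd.1, by rw [conj_pow, hd.2, mul_one, mul_inv_cancel]⟩⟩
    intro d hd
    rw [← this] at hd
    exact hd.2
  have hDl : IsPGroup l D := fun d => ⟨1, Subtype.ext (by rw [pow_one]; exact hexp d d.2)⟩
  by_cases hDfix : ∃ x ∈ fixSub D, ¬ (x = 1 ∨ x = z)
  · have hlt : fixSub D ≠ ⊤ := fun e => hDb (le_bot_iff.mp fun d hd => Subgroup.mem_bot.mpr
      (MulEquiv.ext fun x => (e ▸ Subgroup.mem_top x : x ∈ fixSub D) d hd))
    have hstab : ∀ φ : MulAut E, (∀ d ∈ D, φ * d * φ⁻¹ ∈ D) → (∀ d ∈ D, φ⁻¹ * d * φ ∈ D) →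
        φ ∈ stab (fixSub D) := by
      intro φ h1 h2
      refine mem_stab_of_forall fun x hx d hd => ?_
      have e := hx _ (h2 d hd)
      rw [MulAut.mul_apply, MulAut.mul_apply] at e
      have e2 := congrArg φ e
      rwa [MulAut.apply_inv_self] at e2
    exact lifts_split h hS ih f A hA hnorm hfix (h.fixSub_ND hl hl2 hDl) hlt hDfix
      (fun s => hstab _ (hDs s) fun d hd => by
        have := hDs s⁻¹ d hd
        rwa [map_inv, inv_inv] at this)
      (fun a ha => hstab a (hDn a ha) fun d hd => by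
        have := hDn a⁻¹ (A.inv_mem ha) d hd
        rwa [inv_inv] at this)
  push Not at hDfix
  have hDfix' : ∀ x : E, (∀ a ∈ D, a x = x) → x = 1 ∨ x = z := fun x hx => hDfix x hx
  by_cases hDA' : D ≠ A
  · exact ihk _ (hk ▸ lt_of_le_of_ne (Nat.le_of_dvd Nat.card_pos (Subgroup.card_dvd_of_le hDA))
      fun e => hDA' (Subgroup.eq_of_le_of_card_ge hDA e.ge))
      D rfl hDodd hDs hDfix'
  push Not at hDA'
  subst hDA'
  -- elementary abelian with fixed points only in the centre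
  obtain ⟨x₀, hx₀⟩ : ∃ x : E, ¬ (x = 1 ∨ x = z) := by
    by_contra hc
    push Not at hc
    refine hAb (le_bot_iff.mp fun a ha => Subgroup.mem_bot.mpr (MulEquiv.ext fun x => ?_))
    rcases hc x with rfl | rfl
    · simp
    · exact h.aut_z a
  obtain ⟨B, hBmax⟩ := Set.Finite.exists_maximal
    (Set.toFinite {B : Subgroup (MulAut E) | B ≤ D ∧ ∃ x ∈ fixSub B, ¬ (x = 1 ∨ x = z)})
    ⟨⊥, bot_le, x₀, fun b hb => by rw [Subgroup.mem_bot.mp hb, MulAut.one_apply], hx₀⟩
  obtain ⟨hBA, xB, hxB, hxBn⟩ := hBmax.prop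
  obtain ⟨a, ha, haB⟩ : ∃ a ∈ D, a ∉ B := by
    by_contra hc
    push Not at hc
    exact hxBn (hfix xB fun a ha => hxB a (hc a ha))
  have hBl : IsPGroup l B := hDl.to_le hBA
  have hndB := h.fixSub_ND hl hl2 hBl
  have hcoat : ∀ c ∈ D, c ∉ B → B ⊔ Subgroup.zpowers c = D := by
    intro c hc hcB
    refine le_antisymm (sup_le hBA (Subgroup.zpowers_le.mpr hc)) fun b hb => ?_
    by_contra hbn
    have hst : ∀ g ∈ D, g ∈ stab (fixSub B) := fun g hg => mem_stab_of_forall fun y hy d hd => by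
      show (d * g) y = g y
      rw [hDab d (hBA hd) g hg, MulAut.mul_apply, hy d hd]
    let r := res (fixSub B)
    obtain ⟨p, q, hp, hq, hpq, y, hy, hyn⟩ := (hndB.extra h).exists_fixed_pair hl hl2
      (r ⟨c, hst c hc⟩) (r ⟨b, hst b hb⟩)
      (by rw [← map_pow, show (⟨c, hst c hc⟩ : stab (fixSub B)) ^ l = 1 from
        Subtype.ext (hexp c hc), map_one])
      (by rw [← map_pow, show (⟨b, hst b hb⟩ : stab (fixSub B)) ^ l = 1 from
        Subtype.ext (hexp b hb), map_one])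
      (((show Commute (⟨c, hst c hc⟩ : stab (fixSub B)) ⟨b, hst b hb⟩ from
        Subtype.ext (hDab c hc b hb)).map r))
      (x := (⟨xB, hxB⟩ : fixSub B)) (fun e => hxBn (e.imp (congrArg Subtype.val) (congrArg Subtype.val)))
    set g := c ^ p * b ^ q with hg
    have hgD : g ∈ D := D.mul_mem (D.pow_mem hc p) (D.pow_mem hb q)
    have hgy : g (y : E) = y := by
      rw [← map_pow, ← map_pow, ← map_mul] at hy
      exact congrArg Subtype.val hy
    have hgB : g ∈ B := by
      refine hBmax.le_of_ge ⟨sup_le hBA (Subgroup.zpowers_le.mpr hgD), (y : E), ?_, ?_⟩ le_sup_left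
        (Subgroup.mem_sup_right (Subgroup.mem_zpowers g))
      · have hle : B ⊔ Subgroup.zpowers g ≤
            (MulAction.stabilizer (MulAut E) (y : E)) := by
          refine sup_le (fun d hd => ?_) (Subgroup.zpowers_le.mpr ?_)
          · exact MulAction.mem_stabilizer_iff.mpr (y.2 d hd)
          · exact MulAction.mem_stabilizer_iff.mpr hgy
        exact fun d hd => MulAction.mem_stabilizer_iff.mp (hle hd)
      · exact fun e => hyn (e.imp (fun e => Subtype.ext e) (fun e => Subtype.ext e))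
    -- express `b` or `c`
    have hroot : ∀ (e : MulAut E) (i : ℕ), e ∈ D → i ≠ 0 → i < l → ∃ j : ℕ, (e ^ i) ^ j = e := by
      intro e i he hi0 hil
      refine exists_pow_eq_self_of_coprime (Nat.Coprime.coprime_dvd_right
        (orderOf_dvd_of_pow_eq_one (hexp e he)) ?_)
      exact (hl.coprime_iff_not_dvd.mpr
        (Nat.not_dvd_of_pos_of_lt (Nat.pos_of_ne_zero hi0) hil)).symm
    by_cases hq0 : q = 0
    · obtain ⟨j, hj⟩ := hroot c p hc (fun hp0 => hpq ⟨hp0, hq0⟩) hp
      apply hcB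
      rw [← hj]
      refine B.pow_mem ?_ j
      rwa [hg, hq0, pow_zero, mul_one] at hgB
    · obtain ⟨j, hj⟩ := hroot b q hb hq0 hq
      apply hbn
      rw [← hj]
      refine Subgroup.pow_mem _ ?_ j
      rw [show b ^ q = (c ^ p)⁻¹ * g by rw [hg, inv_mul_cancel_left]]
      exact Subgroup.mul_mem _ (Subgroup.mem_sup_right (Subgroup.inv_mem _
        (Subgroup.pow_mem _ (Subgroup.mem_zpowers c) p))) (Subgroup.mem_sup_left hgB)
  by_cases hB0 : B = ⊥
  · have hD : D = Subgroup.zpowers a := by rw [← hcoat a ha haB, hB0, bot_sup_eq]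
    refine lifts_of_prime h hS f a hl hl2 (hexp a ha) (fun e => haB (e ▸ B.one_mem))
      (fun x hx => hfix x fun d hd => ?_) fun s => hD ▸ hnorm s a ha
    rw [hD] at hd
    have hle : Subgroup.zpowers a ≤ MulAction.stabilizer (MulAut E) x :=
      Subgroup.zpowers_le.mpr (MulAction.mem_stabilizer_iff.mpr hx)
    exact MulAction.mem_stabilizer_iff.mp (hle hd)
  have hBlt : fixSub B ≠ ⊤ := fun e => hB0 (le_bot_iff.mp fun d hd => Subgroup.mem_bot.mpr
    (MulEquiv.ext fun x => (e ▸ Subgroup.mem_top x : x ∈ fixSub B) d hd))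
  -- conjugates
  let Bs : S → Subgroup (MulAut E) := fun s => conjSub (f s) B
  have hBsA : ∀ s, Bs s ≤ D := by
    rintro s _ ⟨b, hb, rfl⟩
    exact hnorm s b (hBA hb)
  have hBsl : ∀ s, IsPGroup l (Bs s) := fun s => hDl.to_le (hBsA s)
  have hBsmul : ∀ s t, Bs (s * t) = conjSub (f s) (Bs t) := fun s t => by
    simp only [Bs, map_mul, conjSub_mul]
  have hcoat' : ∀ s s', Bs s ≠ Bs s' → Bs s ⊔ Bs s' = D := by
    intro s s' hne
    have hne' : ¬ Bs (s⁻¹ * s') ≤ B := by
      intro hle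
      have hcard : Nat.card (Bs (s⁻¹ * s')) = Nat.card B :=
        Subgroup.card_map_of_injective (MulAut.conj _).injective
      have heq : Bs (s⁻¹ * s') = B := Subgroup.eq_of_le_of_card_ge hle hcard.ge
      apply hne
      rw [show s' = s * (s⁻¹ * s') by rw [mul_inv_cancel_left], hBsmul s (s⁻¹ * s'), heq]
    obtain ⟨c, hc, hcB⟩ := SetLike.not_le_iff_exists.mp hne'
    refine le_antisymm (sup_le (hBsA s) (hBsA s')) fun d hd => ?_
    have h1 : f s⁻¹ * d * (f s⁻¹)⁻¹ ∈ B ⊔ Subgroup.zpowers c := by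
      rw [hcoat c (hBsA _ hc) hcB]; exact hnorm _ d hd
    have h2 : B ⊔ Subgroup.zpowers c ≤ (Bs s ⊔ Bs s').comap (MulAut.conj (f s)).toMonoidHom := by
      refine sup_le (fun b hb => ?_) (Subgroup.zpowers_le.mpr ?_)
      · exact Subgroup.mem_sup_left ⟨b, hb, rfl⟩
      · refine Subgroup.mem_sup_right ?_
        have e : Bs s' = conjSub (f s) (Bs (s⁻¹ * s')) := by
          rw [← hBsmul, mul_inv_cancel_left]
        show (MulAut.conj (f s)).toMonoidHom c ∈ Bs s'
        rw [e]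
        exact ⟨c, hc, rfl⟩
    have h3 := h2 h1
    rw [Subgroup.mem_comap, show (MulAut.conj (f s)).toMonoidHom (f s⁻¹ * d * (f s⁻¹)⁻¹) = d by
      rw [map_inv, inv_inv]
      show f s * ((f s)⁻¹ * d * f s) * (f s)⁻¹ = d
      group] at h3
    exact h3
  have hcomm : ∀ s s', Bs s ≠ Bs s' → ∀ x ∈ fixSub (Bs s), ∀ y ∈ fixSub (Bs s'), x * y = y * x :=
    fun s s' hne => h.fixSub_comm hl hl2 hDl hDab (hBsA s) (hBsA s') (hcoat' s s' hne) hfix
  have hstabD : ∀ B' ≤ D, ∀ a ∈ D, ∀ x ∈ fixSub B', a x ∈ fixSub B' := fun B' hB' g hg x hx d hd => by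
    show (d * g) x = g x
    rw [hDab d (hB' hd) g hg, MulAut.mul_apply, hx d hd]
  let Stab : Subgroup S :=
    { carrier := {s | Bs s = B}
      one_mem' := by show conjSub (f 1) B = B; rw [map_one, conjSub_one]
      mul_mem' := fun {s t} hs ht => by
        show Bs (s * t) = B
        rw [hBsmul, show Bs t = B from ht]; exact hs
      inv_mem' := fun {s} hs => by
        show Bs s⁻¹ = B
        have hs' : conjSub (f s) B = B := hs
        conv_lhs => arg 0
        show conjSub (f s⁻¹) B = B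
        conv_lhs => rw [← hs', ← conjSub_mul, ← map_mul, inv_mul_cancel, map_one, conjSub_one] }
  by_cases hStab : Stab = ⊤
  · have hall : ∀ s, Bs s = B := fun s => (hStab ▸ Subgroup.mem_top s : s ∈ Stab)
    refine lifts_split h hS ih f D hA hnorm hfix hndB hBlt ⟨xB, hxB, hxBn⟩ (fun s => ?_)
      fun g hg => mem_stab_of_forall fun x hx => hstabD B hBA g hg x hx
    refine mem_stab_of_forall fun x hx => ?_
    have := map_mem_fixSub (φ := f s) hx
    rwa [show conjSub (f s) B = B from hall s] at this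
  -- a subgroup of index two over the stabiliser
  obtain ⟨M, hM2, hStabM⟩ : ∃ M : Subgroup S, M.index = 2 ∧ Stab ≤ M := by
    have : Fact (Nat.Prime 2) := ⟨Nat.prime_two⟩
    obtain ⟨N, hN⟩ := IsPGroup.iff_card.mp hS
    obtain ⟨j, hj⟩ := IsPGroup.iff_card.mp (hS.to_subgroup Stab)
    have hjN : j < N := by
      rw [← Nat.pow_lt_pow_iff_right (a := 2) (by norm_num), ← hj, ← hN]
      exact lt_of_le_of_ne (Subgroup.card_le_card_group _) fun e =>
        hStab (Subgroup.eq_top_of_card_eq _ e)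
    obtain ⟨M, hM, hle⟩ := Sylow.exists_subgroup_card_pow_prime_le 2 (G := S) (m := N - 1) (n := j)
      (hN ▸ Nat.pow_dvd_pow 2 (Nat.sub_le N 1)) Stab hj (by omega)
    refine ⟨M, ?_, hle⟩
    have h1 := Subgroup.card_mul_index M
    rw [hM, hN, show 2 ^ N = 2 ^ (N - 1) * 2 by rw [← pow_succ]; congr 1; omega] at h1
    exact Nat.eq_of_mul_eq_mul_left (Nat.two_pow_pos _) h1
  obtain ⟨t, ht⟩ : ∃ t, t ∉ M := by
    by_contra hc
    push Not at hc
    rw [(Subgroup.eq_top_iff' M).mpr hc, Subgroup.index_top] at hM2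
    exact absurd hM2 (by norm_num)
  have := Fintype.ofFinite S
  let O₁ := (Finset.univ.filter (· ∈ M)).image Bs
  let O₂ := (Finset.univ.filter (· ∉ M)).image Bs
  have hdisj : ∀ s ∈ M, ∀ s' ∉ M, Bs s ≠ Bs s' := by
    intro s hs s' hs' e
    apply hs'
    have h1 : s⁻¹ * s' ∈ Stab := by
      show Bs (s⁻¹ * s') = B
      rw [hBsmul, ← e, ← hBsmul, inv_mul_cancel]
      exact conjSub_one B ▸ (by show conjSub (f 1) B = conjSub 1 B; rw [map_one])
    have := M.mul_mem hs (hStabM h1)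
    rwa [mul_inv_cancel_left] at this
  have hO₁ : ∀ B' ∈ O₁, ∃ s, s ∈ M ∧ Bs s = B' := fun B' hB' => by
    obtain ⟨s, hs, e⟩ := Finset.mem_image.mp hB'
    exact ⟨s, (Finset.mem_filter.mp hs).2, e⟩
  have hO₂ : ∀ B' ∈ O₂, ∃ s, s ∉ M ∧ Bs s = B' := fun B' hB' => by
    obtain ⟨s, hs, e⟩ := Finset.mem_image.mp hB'
    exact ⟨s, (Finset.mem_filter.mp hs).2, e⟩
  have hin₁ : ∀ s ∈ M, Bs s ∈ O₁ := fun s hs =>
    Finset.mem_image_of_mem Bs (Finset.mem_filter.mpr ⟨Finset.mem_univ s, hs⟩)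
  have hin₂ : ∀ s ∉ M, Bs s ∈ O₂ := fun s hs =>
    Finset.mem_image_of_mem Bs (Finset.mem_filter.mpr ⟨Finset.mem_univ s, hs⟩)
  set E₁ := joinFix z O₁ with hE₁
  set E₂ := joinFix z O₂ with hE₂
  have hgen : ∀ B' ∈ O₁ ∪ O₂, ∃ s, Bs s = B' := fun B' hB' => by
    rcases Finset.mem_union.mp hB' with h' | h'
    · exact (hO₁ B' h').imp fun s => And.right
    · exact (hO₂ B' h').imp fun s => And.right
  have hpair : ∀ B' ∈ O₁ ∪ O₂, ∀ B'' ∈ O₁ ∪ O₂, B' ≠ B'' →
      ∀ x ∈ fixSub B', ∀ y ∈ fixSub B'', x * y = y * x := by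
    intro B' hB' B'' hB'' hne
    obtain ⟨s, rfl⟩ := hgen B' hB'
    obtain ⟨s', rfl⟩ := hgen B'' hB''
    exact hcomm s s' hne
  have hndall : ∀ B' ∈ O₁ ∪ O₂, ND z (fixSub B') := fun B' hB' => by
    obtain ⟨s, rfl⟩ := hgen B' hB'
    exact h.fixSub_ND hl hl2 (hBsl s)
  have hND₁ : ND z E₁ := joinFix_ND h O₁ (fun B' hB' => hndall B' (Finset.mem_union_left _ hB'))
    fun B' hB' B'' hB'' =>
      hpair B' (Finset.mem_union_left _ hB') B'' (Finset.mem_union_left _ hB'')
  have hc12 : ∀ x ∈ E₁, ∀ y ∈ E₂, x * y = y * x := joinFix_comm h fun B' hB' B'' hB'' => by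
    obtain ⟨s, hs, rfl⟩ := hO₁ B' hB'
    obtain ⟨s', hs', rfl⟩ := hO₂ B'' hB''
    exact hcomm s s' (hdisj s hs s' hs')
  -- movement under the acting group
  have hmove : ∀ (s : S) (O O' : Finset (Subgroup (MulAut E))),
      (∀ B' ∈ O, conjSub (f s) B' ∈ O') → ∀ x ∈ joinFix z O, f s x ∈ joinFix z O' := by
    intro s O O' hO x hx
    have : joinFix z O ≤ (joinFix z O').comap (f s).toMonoidHom :=
      joinFix_le (show f s z ∈ joinFix z O' by rw [h.aut_z]; exact mem_joinFix_z O')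
        fun B' hB' y hy => fixSub_le_joinFix (hO B' hB') (map_mem_fixSub hy)
    exact this hx
  have hmoveD : ∀ g ∈ D, ∀ O : Finset (Subgroup (MulAut E)), (∀ B' ∈ O, B' ≤ D) →
      ∀ x ∈ joinFix z O, g x ∈ joinFix z O := by
    intro g hg O hO x hx
    have : joinFix z O ≤ (joinFix z O).comap g.toMonoidHom :=
      joinFix_le (show g z ∈ joinFix z O by rw [h.aut_z]; exact mem_joinFix_z O)
        fun B' hB' y hy => fixSub_le_joinFix hB' (hstabD B' (hO B' hB') g hg y hy)
    exact this hx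
  have hleD : ∀ B' ∈ O₁ ∪ O₂, B' ≤ D := fun B' hB' => by
    obtain ⟨s, rfl⟩ := hgen B' hB'; exact hBsA s
  have hxall : ∀ s, ∃ x ∈ fixSub (Bs s), ¬ (x = 1 ∨ x = z) := fun s =>
    ⟨f s xB, map_mem_fixSub hxB, fun e => hxBn (e.imp (fun e => (f s).injective (e.trans (map_one _).symm))
      (fun e => (f s).injective (e.trans (h.aut_z _).symm)))⟩
  set W := joinFix z (O₁ ∪ O₂) with hW
  by_cases hWtop : W ≠ ⊤
  · refine lifts_split h hS ih f D hA hnorm hfix (joinFix_ND h _ hndall hpair) hWtop ?_ (fun s => ?_)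
      fun g hg => mem_stab_of_forall fun x hx => hmoveD g hg _ hleD x hx
    · obtain ⟨x, hx, hxn⟩ := hxall 1
      exact ⟨x, fixSub_le_joinFix (Finset.mem_union_left _ (hin₁ 1 M.one_mem)) hx, hxn⟩
    · refine mem_stab_of_forall fun x hx => hmove s _ _ (fun B' hB' => ?_) x hx
      obtain ⟨s', rfl⟩ := hgen B' hB'
      rw [← hBsmul]
      by_cases hss : s * s' ∈ M
      · exact Finset.mem_union_left _ (hin₁ _ hss)
      · exact Finset.mem_union_right _ (hin₂ _ hss)
  push Not at hWtop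
  have hMn : M.Normal := Subgroup.normal_of_index_eq_two hM2
  have hmem2 : ∀ a b : S, a * b ∈ M ↔ (a ∈ M ↔ b ∈ M) :=
    fun a b => Subgroup.mul_mem_iff_of_index_two hM2
  have hsup : E₁ ⊔ E₂ = ⊤ := top_le_iff.mp (hWtop ▸ joinFix_le (Subgroup.mem_sup_left
    (mem_joinFix_z O₁)) fun B' hB' => by
      rcases Finset.mem_union.mp hB' with h' | h'
      · exact (fixSub_le_joinFix h').trans le_sup_left
      · exact (fixSub_le_joinFix h').trans le_sup_right)
  have hft : ∀ x ∈ E₁, f t x ∈ E₂ := hmove t O₁ O₂ fun B' hB' => by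
    obtain ⟨s, hs, rfl⟩ := hO₁ B' hB'
    rw [← hBsmul]
    exact hin₂ _ fun hh => ht (((hmem2 t s).mp hh).mpr hs)
  have hmap : E₁.map (f t).toMonoidHom = E₂ := by
    refine le_antisymm (by rintro _ ⟨x, hx, rfl⟩; exact hft x hx) fun y hy => ?_
    refine ⟨(f t)⁻¹ y, ?_, MulAut.apply_inv_self _ _ _⟩
    rw [← map_inv]
    refine hmove t⁻¹ O₂ O₁ (fun B' hB' => ?_) y hy
    obtain ⟨s, hs, rfl⟩ := hO₂ B' hB'
    rw [← hBsmul]
    exact hin₁ _ ((hmem2 _ _).mpr ⟨fun h1 => absurd (by simpa using M.inv_mem h1) ht,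
      fun h1 => absurd h1 hs⟩)
  have hs1 : ∀ s : M, f s ∈ stab E₁ := fun s => mem_stab_of_forall fun x hx =>
    hmove (s : S) O₁ O₁ (fun B' hB' => by
      obtain ⟨s', hs', rfl⟩ := hO₁ B' hB'
      rw [← hBsmul]
      exact hin₁ _ (M.mul_mem s.2 hs')) x hx
  have hint : ∀ x ∈ E₁, x ∈ E₂ → x = 1 ∨ x = z := fun x hx hx2 =>
    hND₁.2 x hx fun y hy => (hc12 y hy x hx2).symm
  have hE₁top : E₁ ≠ ⊤ := by
    intro e
    obtain ⟨x, hx, hxn⟩ := hxall t
    exact hxn (hint x (e ▸ Subgroup.mem_top x) (fixSub_le_joinFix (hin₂ t ht) hx))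
  refine lifts_swap h f M hM2 ht E₁ hND₁.1 hs1 (fun x hx y hy => hc12 x hx _ (hft y hy))
    (fun x hx y hy e => hint x hx (e ▸ hft y hy)) (hmap ▸ hsup) ?_
  exact lifts_invariant h (hS.to_subgroup M) ih (f.comp M.subtype) D hA (fun s => hnorm s) hfix hND₁
    hE₁top hs1 fun g hg => mem_stab_of_forall fun x hx =>
      hmoveD g hg O₁ (fun B' hB' => hleD B' (Finset.mem_union_left _ hB')) x hx

/-- The main lifting theorem. -/
theorem lifts_main {E S : Type u} [Group E] [Finite E] {z : E} [Group S] [Finite S]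
    (h : Extra E z) (hS : IsPGroup 2 S) (f : S →* MulAut E) (A : Subgroup (MulAut E))
    (hA : Odd (Nat.card A)) (hnorm : ∀ s : S, ∀ a ∈ A, f s * a * (f s)⁻¹ ∈ A)
    (hfix : ∀ x : E, (∀ a ∈ A, a x = x) → x = 1 ∨ x = z) : Lifts E z f :=
  lifts_main_aux _ E z h rfl S hS f _ A rfl hA hnorm hfix

end Cfsg.Lib.ExtraExt
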