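import Cfsg.Agent.ExtraExt.Basic

/-!
# Central products and tensor induction along a subgroup of index two
-/

set_option linter.unusedVariables false

namespace Cfsg.Lib.ExtraExt

open Matrix
open scoped Kronecker

universe u

variable {E : Type u} [Group E] {z : E}

/-- Stabiliser of a subgroup in the automorphism group. -/
def stab (E₁ : Subgroup E) : Subgroup (MulAut E) where
  carrier := {φ | ∀ x, φ x ∈ E₁ ↔ x ∈ E₁}
  one_mem' := fun x => Iff.rfl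
  mul_mem' := fun {a b} ha hb x => (ha (b x)).trans (hb x)
  inv_mem' := fun {a} ha x => by
    rw [← ha (a⁻¹ x), MulAut.apply_inv_self]

/-- Restriction of automorphisms. -/
def res (E₁ : Subgroup E) : stab E₁ →* MulAut E₁ where
  toFun φ :=
    { toFun := fun x => ⟨(φ : MulAut E) x, (φ.2 x).mpr x.2⟩
      invFun := fun x => ⟨((φ : MulAut E)⁻¹) x, (((stab E₁).inv_mem φ.2) x).mpr x.2⟩
      left_inv := fun x => Subtype.ext (MulAut.inv_apply_self _ _ _)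
      right_inv := fun x => Subtype.ext (MulAut.apply_inv_self _ _ _)
      map_mul' := fun x y => Subtype.ext (map_mul _ _ _) }
  map_one' := MulEquiv.ext fun x => rfl
  map_mul' := fun a b => MulEquiv.ext fun x => rfl

theorem res_apply (E₁ : Subgroup E) (φ : stab E₁) (x : E₁) :
    ((res E₁ φ x : E₁) : E) = (φ : MulAut E) x := rfl

theorem mem_stab_of_forall [Finite E] {E₁ : Subgroup E} {φ : MulAut E} (h : ∀ x ∈ E₁, φ x ∈ E₁) :
    φ ∈ stab E₁ := by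
  have hmap : E₁.map φ.toMonoidHom = E₁ := by
    refine Subgroup.eq_of_le_of_card_ge ?_ (Subgroup.card_map_of_injective φ.injective).ge
    rintro _ ⟨x, hx, rfl⟩
    exact h x hx
  intro x
  refine ⟨fun hx => ?_, h x⟩
  rw [← hmap] at hx
  obtain ⟨w, hw, hwx⟩ := hx
  exact φ.injective hwx ▸ hw

variable [Finite E]

omit [Finite E] in
/-- Cardinality of a central product. -/
theorem Extra.card_sup (h : Extra E z) {E₁ E₂ : Subgroup E}
    (hc : ∀ x ∈ E₁, ∀ y ∈ E₂, x * y = y * x) (h1 : z ∈ E₁) (h2 : z ∈ E₂)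
    (hi : ∀ x ∈ E₁, x ∈ E₂ → x = 1 ∨ x = z) :
    2 * Nat.card ↥(E₁ ⊔ E₂) = Nat.card E₁ * Nat.card E₂ := by
  let μ : E₁ × E₂ →* E := MonoidHom.noncommCoprod E₁.subtype E₂.subtype fun a b => hc a a.2 b b.2
  have hr : μ.range = E₁ ⊔ E₂ := by
    exact (MonoidHom.noncommCoprod_range E₁.subtype E₂.subtype _).trans
      (by rw [Subgroup.range_subtype, Subgroup.range_subtype])
  have hμ : ∀ p : E₁ × E₂, μ p = (p.1 : E) * p.2 := fun p => rfl
  have hk : Nat.card μ.ker = 2 := by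
    refine Nat.card_eq_two_iff.mpr ⟨⟨1, μ.ker.one_mem⟩,
      ⟨(⟨z, h1⟩, ⟨z, h2⟩), by rw [MonoidHom.mem_ker, hμ]; exact h.sq⟩, fun h0 => h.ne ?_, ?_⟩
    · have := congrArg (fun p : μ.ker => (((p : E₁ × E₂).1 : E₁) : E)) h0
      exact this.symm
    · ext p
      simp only [Set.mem_insert_iff, Set.mem_singleton_iff, Set.mem_univ, iff_true]
      obtain ⟨⟨⟨x, hx⟩, ⟨y, hy⟩⟩, hp⟩ := p
      have hxy : x * y = 1 := hp
      have hy' : y = x⁻¹ := eq_inv_of_mul_eq_one_right hxy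
      rcases hi x hx (by simpa [hy'] using E₂.inv_mem hy) with h' | h'
      · left
        apply Subtype.ext
        ext <;> simp [h', hy']
      · right
        apply Subtype.ext
        ext <;> simp [h', hy', h.inv_z]
  rw [← hr, ← Nat.card_prod, ← Subgroup.card_mul_index μ.ker, hk, Subgroup.index_ker]

omit [Finite E] in
/-- The representation of a central product on the tensor product. -/
theorem Extra.prod_rep (h : Extra E z) {E₁ E₂ : Subgroup E}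
    (hc : ∀ x ∈ E₁, ∀ y ∈ E₂, x * y = y * x) (h1 : z ∈ E₁) (h2 : z ∈ E₂)
    (hi : ∀ x ∈ E₁, x ∈ E₂ → x = 1 ∨ x = z) (hsup : E₁ ⊔ E₂ = ⊤)
    {ι κ : Type} [Fintype ι] [DecidableEq ι] [Fintype κ] [DecidableEq κ]
    (ρ₁ : E₁ →* Matrix ι ι ℂ) (ρ₂ : E₂ →* Matrix κ κ ℂ)
    (hz1 : ρ₁ ⟨z, h1⟩ = -1) (hz2 : ρ₂ ⟨z, h2⟩ = -1)
    (hd1 : 2 * Fintype.card ι ^ 2 = Nat.card E₁) (hd2 : 2 * Fintype.card κ ^ 2 = Nat.card E₂) :
    ∃ ρ : E →* Matrix (ι × κ) (ι × κ) ℂ, ρ z = -1 ∧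
      2 * Fintype.card (ι × κ) ^ 2 = Nat.card E ∧
      (∀ (x : E₁) (y : E₂), ρ (x * y) = ρ₁ x ⊗ₖ ρ₂ y) ∧
      ∀ e : E, ∃ (x : E₁) (y : E₂), e = x * y := by
  let μ : E₁ × E₂ →* E := MonoidHom.noncommCoprod E₁.subtype E₂.subtype fun a b => hc a a.2 b b.2
  have hr : μ.range = ⊤ := by
    exact (MonoidHom.noncommCoprod_range E₁.subtype E₂.subtype _).trans
      (by rw [Subgroup.range_subtype, Subgroup.range_subtype, hsup])
  have hμ : ∀ p : E₁ × E₂, μ p = (p.1 : E) * p.2 := fun p => rfl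
  let τ : E₁ × E₂ →* Matrix (ι × κ) (ι × κ) ℂ :=
    { toFun := fun p => ρ₁ p.1 ⊗ₖ ρ₂ p.2
      map_one' := by simp
      map_mul' := fun p q => by simp [Matrix.mul_kronecker_mul] }
  have hker : ∀ p, μ p = 1 → τ p = 1 := by
    rintro ⟨⟨x, hx⟩, ⟨y, hy⟩⟩ hp
    have hy' : y = x⁻¹ := eq_inv_of_mul_eq_one_right hp
    show ρ₁ ⟨x, hx⟩ ⊗ₖ ρ₂ ⟨y, hy⟩ = 1
    rcases hi x hx (by simpa [hy'] using E₂.inv_mem hy) with h' | h'
    · subst h'
      rw [show (⟨y, hy⟩ : E₂) = 1 from Subtype.ext (by simp [hy']),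
        show (⟨1, hx⟩ : E₁) = 1 from rfl, map_one, map_one, Matrix.one_kronecker_one]
    · subst h'
      rw [show (⟨y, hy⟩ : E₂) = ⟨x, h2⟩ from Subtype.ext (by simp [hy', h.inv_z]), hz1, hz2]
      rw [← neg_one_smul ℂ (1 : Matrix ι ι ℂ), ← neg_one_smul ℂ (1 : Matrix κ κ ℂ),
        Matrix.smul_kronecker, Matrix.kronecker_smul, Matrix.one_kronecker_one, smul_smul]
      norm_num
  have hsurj : Function.Surjective μ := MonoidHom.range_eq_top.mp hr
  choose sec hsec using hsurj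
  have hkey : ∀ p q, μ p = μ q → τ p = τ q := by
    intro p q hpq
    have h3 : μ (p * q⁻¹) = 1 := by rw [map_mul, map_inv, hpq, mul_inv_cancel]
    rw [show τ p = τ (p * q⁻¹ * q) by rw [inv_mul_cancel_right], map_mul, hker _ h3, one_mul]
  refine ⟨⟨⟨fun e => τ (sec e), ?_⟩, fun a b => ?_⟩, ?_, ?_, fun x y => ?_, fun e => ?_⟩
  · exact (hkey _ 1 (by rw [hsec, map_one])).trans (map_one τ)
  · rw [← map_mul]
    exact hkey _ _ (by rw [hsec, map_mul, hsec, hsec])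
  · show τ (sec z) = -1
    rw [hkey (sec z) (⟨z, h1⟩, 1) (by rw [hsec, hμ, OneMemClass.coe_one, mul_one])]
    show ρ₁ ⟨z, h1⟩ ⊗ₖ ρ₂ 1 = -1
    rw [hz1, map_one, ← neg_one_smul ℂ (1 : Matrix ι ι ℂ), Matrix.smul_kronecker,
      Matrix.one_kronecker_one, neg_one_smul]
  · have hcard := h.card_sup hc h1 h2 hi
    rw [hsup, Subgroup.card_top, ← hd1, ← hd2] at hcard
    rw [Fintype.card_prod]
    have : 2 * (2 * (Fintype.card ι * Fintype.card κ) ^ 2) = 2 * Nat.card E := by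
      rw [hcard]; ring
    omega
  · exact hkey _ (x, y) (by rw [hsec, hμ])
  · exact ⟨(sec e).1, (sec e).2, (hsec e).symm⟩

/-- A central product decomposition invariant under the acting group. -/
theorem lifts_prod (h : Extra E z) {S : Type*} [Group S] (f : S →* MulAut E) {E₁ E₂ : Subgroup E}
    (hc : ∀ x ∈ E₁, ∀ y ∈ E₂, x * y = y * x) (h1 : z ∈ E₁) (h2 : z ∈ E₂)
    (hi : ∀ x ∈ E₁, x ∈ E₂ → x = 1 ∨ x = z) (hsup : E₁ ⊔ E₂ = ⊤)
    (hs1 : ∀ s, f s ∈ stab E₁) (hs2 : ∀ s, f s ∈ stab E₂)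
    (L1 : Lifts E₁ ⟨z, h1⟩ ((res E₁).comp (f.codRestrict _ hs1)))
    (L2 : Lifts E₂ ⟨z, h2⟩ ((res E₂).comp (f.codRestrict _ hs2))) : Lifts E z f := by
  obtain ⟨ι, _, _, ρ₁, U₁, hz1, hd1, hU1⟩ := L1
  obtain ⟨κ, _, _, ρ₂, U₂, hz2, hd2, hU2⟩ := L2
  obtain ⟨ρ, hρz, hd, hρ, hgen⟩ := h.prod_rep hc h1 h2 hi hsup ρ₁ ρ₂ hz1 hz2 hd1 hd2
  let U : S →* Matrix (ι × κ) (ι × κ) ℂ :=
    { toFun := fun s => U₁ s ⊗ₖ U₂ s
      map_one' := by simp
      map_mul' := fun a b => by simp [Matrix.mul_kronecker_mul] }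
  refine ⟨ι × κ, inferInstance, inferInstance, ρ, U, hρz, hd, fun s e => ?_⟩
  obtain ⟨x, y, rfl⟩ := hgen e
  have hfx : f s ((x : E) * y) = ((res E₁ (f.codRestrict _ hs1 s) x : E₁) : E) *
      ((res E₂ (f.codRestrict _ hs2 s) y : E₂) : E) := by rw [map_mul]; rfl
  rw [hfx, hρ, hρ]
  show U₁ s ⊗ₖ U₂ s * _ = _ * (U₁ s ⊗ₖ U₂ s)
  rw [← Matrix.mul_kronecker_mul, ← Matrix.mul_kronecker_mul, hU1, hU2]
  rfl

/-- Extension of a homomorphism from a subgroup of index two. -/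
theorem exists_hom_index_two {S : Type*} [Group S] {M : Type*} [Monoid M] (S₁ : Subgroup S)
    (h2 : S₁.index = 2) {t : S} (ht : t ∉ S₁) (R : S₁ →* M) (T : M)
    (hT : ∀ (g : S₁) (g' : S₁), (g' : S) = t * g * t⁻¹ → T * R g = R g' * T)
    (hT2 : ∀ g : S₁, (g : S) = t * t → T * T = R g) :
    ∃ U : S →* M, (∀ g : S₁, U g = R g) ∧ U t = T := by
  classical
  have hmem : ∀ a b : S, a * b ∈ S₁ ↔ (a ∈ S₁ ↔ b ∈ S₁) :=
    fun a b => Subgroup.mul_mem_iff_of_index_two h2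
  have hti : t⁻¹ ∉ S₁ := fun h => ht (by simpa using S₁.inv_mem h)
  have hsh : ∀ {g : S}, g ∉ S₁ → g * t⁻¹ ∈ S₁ := fun {g} hg =>
    (hmem g t⁻¹).mpr ⟨fun h => absurd h hg, fun h => absurd h hti⟩
  have hcj : ∀ {g : S}, g ∈ S₁ → t * g * t⁻¹ ∈ S₁ := fun {g} hg =>
    (hmem _ _).mpr ⟨fun h => absurd (((hmem t g).mp h).mpr hg) ht, fun h => absurd h hti⟩
  have htt : t * t ∈ S₁ := (hmem t t).mpr Iff.rfl
  let u : S → M := fun g => if hg : g ∈ S₁ then R ⟨g, hg⟩ else R ⟨g * t⁻¹, hsh hg⟩ * T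
  have u1 : ∀ g : S₁, u g = R g := fun g => by simp [u]
  have u2 : ∀ g : S₁, u ((g : S) * t) = R g * T := by
    intro g
    have hn : (g : S) * t ∉ S₁ := fun h => ht (((hmem _ _).mp h).mp g.2)
    simp only [u, dif_neg hn]
    congr 2
    exact Subtype.ext (mul_inv_cancel_right _ _)
  have hcase : ∀ g : S, (∃ a : S₁, g = a) ∨ ∃ a : S₁, g = (a : S) * t := fun g => by
    by_cases hg : g ∈ S₁
    · exact Or.inl ⟨⟨g, hg⟩, rfl⟩
    · exact Or.inr ⟨⟨g * t⁻¹, hsh hg⟩, (inv_mul_cancel_right g t).symm⟩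
  refine ⟨⟨⟨u, ?_⟩, fun a b => ?_⟩, u1, ?_⟩
  · exact (u1 1).trans (map_one R)
  · rcases hcase a with ⟨a, rfl⟩ | ⟨a, rfl⟩ <;> rcases hcase b with ⟨b, rfl⟩ | ⟨b, rfl⟩
    · show u ((a * b : S₁) : S) = u a * u b
      rw [u1, u1, u1, map_mul]
    · show u ((a : S) * ((b : S) * t)) = u a * u ((b : S) * t)
      rw [← mul_assoc, show (a : S) * b * t = ((a * b : S₁) : S) * t from rfl, u2, u1, u2, map_mul,
        mul_assoc]
    · show u ((a : S) * t * b) = u ((a : S) * t) * u b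
      rw [show (a : S) * t * b = ((a * ⟨t * b * t⁻¹, hcj b.2⟩ : S₁) : S) * t by simp [mul_assoc],
        u2, u2, u1, map_mul, mul_assoc (R a) T (R b), hT b ⟨t * b * t⁻¹, hcj b.2⟩ rfl,
        mul_assoc (R a)]
    · show u ((a : S) * t * ((b : S) * t)) = u ((a : S) * t) * u ((b : S) * t)
      rw [show (a : S) * t * ((b : S) * t) =
          ((a * ⟨t * b * t⁻¹, hcj b.2⟩ * ⟨t * t, htt⟩ : S₁) : S) by simp [mul_assoc],
        u1, u2, u2, map_mul, map_mul, ← hT2 ⟨t * t, htt⟩ rfl, mul_assoc (R a) T (R b * T),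
        ← mul_assoc T (R b) T, hT b ⟨t * b * t⁻¹, hcj b.2⟩ rfl,
        mul_assoc (R ⟨t * b * t⁻¹, hcj b.2⟩) T T, mul_assoc (R a)]
  · show u t = T
    have := u2 1
    rwa [OneMemClass.coe_one, one_mul, map_one, one_mul] at this

/-- Tensor induction from a subgroup of index two. -/
theorem lifts_swap (h : Extra E z) {S : Type*} [Group S] (f : S →* MulAut E) (S₁ : Subgroup S)
    (hidx : S₁.index = 2) {t : S} (ht : t ∉ S₁) (E₁ : Subgroup E) (h1 : z ∈ E₁)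
    (hs1 : ∀ s : S₁, f s ∈ stab E₁)
    (hc : ∀ x ∈ E₁, ∀ y ∈ E₁, x * f t y = f t y * x)
    (hi : ∀ x ∈ E₁, ∀ y ∈ E₁, x = f t y → x = 1 ∨ x = z)
    (hsup : E₁ ⊔ E₁.map (f t).toMonoidHom = ⊤)
    (L : Lifts E₁ ⟨z, h1⟩ ((res E₁).comp ((f.comp S₁.subtype).codRestrict _ hs1))) :
    Lifts E z f := by
  classical
  obtain ⟨ι, _, _, ρ₁, U₁, hz1, hd1, hU1⟩ := L
  set E₂ := E₁.map (f t).toMonoidHom with hE₂
  have h2 : z ∈ E₂ := ⟨z, h1, h.aut_z _⟩
  let back : E₂ →* E₁ := (Subgroup.equivMapOfInjective E₁ _ (f t).injective).symm.toMonoidHom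
  have hback : ∀ y : E₂, f t (back y) = (y : E) := fun y => by
    exact congrArg Subtype.val
      ((Subgroup.equivMapOfInjective E₁ (f t).toMonoidHom (f t).injective).apply_symm_apply y)
  have hbz : back ⟨z, h2⟩ = ⟨z, h1⟩ :=
    Subtype.ext ((f t).injective (by rw [hback, h.aut_z]))
  obtain ⟨ρ, hρz, hd, hρ, hgen⟩ := h.prod_rep
    (fun x hx y hy => by
      obtain ⟨y', hy', rfl⟩ := Subgroup.mem_map.mp hy
      exact hc x hx y' hy') h1 h2
    (fun x hx hx' => by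
      obtain ⟨y', hy', e⟩ := Subgroup.mem_map.mp hx'
      exact hi x hx y' hy' e.symm) hsup ρ₁ (ρ₁.comp back) hz1
    (by rw [MonoidHom.comp_apply, hbz, hz1]) hd1
    (by rw [hd1]; exact (Subgroup.card_map_of_injective (f t).injective).symm)
  have hρ' : ∀ x y : E₁, ρ ((x : E) * f t y) = ρ₁ x ⊗ₖ ρ₁ y := by
    intro x y
    have := hρ x ⟨f t y, y, y.2, rfl⟩
    rw [MonoidHom.comp_apply,
      show back ⟨f t y, y, y.2, rfl⟩ = y from Subtype.ext ((f t).injective (hback _))] at this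
    exact this
  have hn : S₁.Normal := Subgroup.normal_of_index_eq_two hidx
  let cj : S₁ →* S₁ := (MulAut.conjNormal (t⁻¹) : MulAut S₁).toMonoidHom
  have hcj : ∀ g : S₁, (cj g : S) = t⁻¹ * g * t := fun g => by
    show ((MulAut.conjNormal t⁻¹ g : S₁) : S) = _
    rw [MulAut.conjNormal_apply, inv_inv]
  let R : S₁ →* Matrix (ι × ι) (ι × ι) ℂ :=
    { toFun := fun g => U₁ g ⊗ₖ U₁ (cj g)
      map_one' := by simp
      map_mul' := fun a b => by simp [Matrix.mul_kronecker_mul] }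
  let P : Matrix (ι × ι) (ι × ι) ℂ := Matrix.of fun p q => if q = p.swap then 1 else 0
  have hP : ∀ A B : Matrix ι ι ℂ, P * (A ⊗ₖ B) = (B ⊗ₖ A) * P := by
    intro A B
    ext p q
    simp only [Matrix.mul_apply, P, Matrix.of_apply, ite_mul, one_mul, zero_mul, mul_ite, mul_one,
      mul_zero, Finset.sum_ite_eq', Finset.mem_univ, if_true]
    rw [Finset.sum_eq_single q.swap (fun r _ hr => if_neg fun e => hr (by rw [e, Prod.swap_swap]))
      (fun hh => absurd (Finset.mem_univ _) hh), if_pos (Prod.swap_swap q).symm]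
    simp [Matrix.kroneckerMap_apply, mul_comm]
  have hP2 : P * P = 1 := by
    ext p q
    simp only [Matrix.mul_apply, P, Matrix.of_apply, ite_mul, one_mul, zero_mul, Finset.sum_ite_eq',
      Finset.mem_univ, if_true, Prod.swap_swap]
    rw [Matrix.one_apply]
    by_cases hpq : p = q
    · rw [if_pos hpq, if_pos hpq.symm]
    · rw [if_neg hpq, if_neg (Ne.symm hpq)]
  have htt : t * t ∈ S₁ := (Subgroup.mul_mem_iff_of_index_two hidx).mpr Iff.rfl
  set V := U₁ ⟨t * t, htt⟩ with hV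
  set T : Matrix (ι × ι) (ι × ι) ℂ := (V ⊗ₖ (1 : Matrix ι ι ℂ)) * P with hTdef
  obtain ⟨U, hU, hUt⟩ := exists_hom_index_two S₁ hidx ht R T
    (fun g g' hg => by
      show V ⊗ₖ (1 : Matrix ι ι ℂ) * P * (U₁ g ⊗ₖ U₁ (cj g)) =
        U₁ g' ⊗ₖ U₁ (cj g') * (V ⊗ₖ (1 : Matrix ι ι ℂ) * P)
      rw [mul_assoc, hP, ← mul_assoc, ← mul_assoc, ← Matrix.mul_kronecker_mul,
        ← Matrix.mul_kronecker_mul, one_mul, mul_one, hV, ← map_mul, ← map_mul]
      rw [show (⟨t * t, htt⟩ : S₁) * cj g = g' * ⟨t * t, htt⟩ from Subtype.ext (by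
            rw [Subgroup.coe_mul, Subgroup.coe_mul, hcj, hg]; group),
        show cj g' = g from Subtype.ext (by rw [hcj, hg]; group)])
    (fun g hg => by
      show V ⊗ₖ (1 : Matrix ι ι ℂ) * P * (V ⊗ₖ (1 : Matrix ι ι ℂ) * P) = U₁ g ⊗ₖ U₁ (cj g)
      rw [mul_assoc, ← mul_assoc P, hP, mul_assoc (1 ⊗ₖ V), hP2, mul_one,
        ← Matrix.mul_kronecker_mul, one_mul, mul_one, hV,
        show g = ⟨t * t, htt⟩ from Subtype.ext hg]
      congr 2
      apply Subtype.ext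
      rw [hcj]
      simp)
  refine ⟨ι × ι, inferInstance, inferInstance, ρ, U, hρz, hd, fun s e => ?_⟩
  suffices hall : ∀ g : S, ∀ e, U g * ρ e = ρ (f g e) * U g from hall s e
  have hmulc : ∀ a b : S, (∀ e, U a * ρ e = ρ (f a e) * U a) → (∀ e, U b * ρ e = ρ (f b e) * U b) →
      ∀ e, U (a * b) * ρ e = ρ (f (a * b) e) * U (a * b) := by
    intro a b ha hb e
    rw [map_mul U, mul_assoc, hb, ← mul_assoc, ha, mul_assoc, map_mul f, MulAut.mul_apply]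
  have hfix : ∀ x : E₁, ∀ g : S₁, f (g : S) x =
      ((res E₁ ((f.comp S₁.subtype).codRestrict _ hs1 g) x : E₁) : E) := fun x g => rfl
  have hgenform : ∀ e : E, ∃ x y : E₁, e = (x : E) * f t y := by
    intro e
    obtain ⟨x, ⟨_, y, hy, rfl⟩, he⟩ := hgen e
    exact ⟨x, ⟨y, hy⟩, he⟩
  have hS₁ : ∀ g : S₁, ∀ e, U g * ρ e = ρ (f g e) * U g := by
    intro g e
    obtain ⟨x, y, rfl⟩ := hgenform e
    have e2 : f (g : S) ((x : E) * f t y) = f (g : S) x * f t (f (cj g : S) y) := by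
      rw [map_mul, show f (g : S) (f t (y : E)) = (f (g : S) * f t) y from rfl,
        show f t (f (cj g : S) (y : E)) = (f t * f (cj g : S)) y from rfl, ← map_mul f, ← map_mul f,
        hcj, show t * (t⁻¹ * (g : S) * t) = (g : S) * t by group]
    rw [e2, hfix x g, hfix y (cj g), hρ', hρ', hU]
    show U₁ g ⊗ₖ U₁ (cj g) * _ = _ * (U₁ g ⊗ₖ U₁ (cj g))
    rw [← Matrix.mul_kronecker_mul, ← Matrix.mul_kronecker_mul, hU1, hU1]
    rfl
  have hT' : ∀ e, U t * ρ e = ρ (f t e) * U t := by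
    intro e
    obtain ⟨x, y, rfl⟩ := hgenform e
    have hy2 : f (t * t) (y : E) ∈ E₁ := (hs1 ⟨t * t, htt⟩ y).mpr y.2
    have e2 : f t ((x : E) * f t y) = f (t * t) y * f t x := by
      rw [map_mul, show f t (f t (y : E)) = (f t * f t) y from rfl, ← map_mul f]
      exact (hc _ hy2 _ x.2).symm
    rw [e2, hfix y ⟨t * t, htt⟩, hρ', hρ', hUt, hTdef, mul_assoc, hP, ← mul_assoc, ← mul_assoc,
      ← Matrix.mul_kronecker_mul, ← Matrix.mul_kronecker_mul, hV, hU1, one_mul, mul_one]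
    rfl
  intro g e
  by_cases hg : g ∈ S₁
  · exact hS₁ ⟨g, hg⟩ e
  · have hgt : g * t⁻¹ ∈ S₁ := (Subgroup.mul_mem_iff_of_index_two hidx).mpr
      ⟨fun h => absurd h hg, fun h => absurd (by simpa using S₁.inv_mem h) ht⟩
    have := hmulc (g * t⁻¹) t (hS₁ ⟨_, hgt⟩) hT' e
    rwa [inv_mul_cancel_right] at this

end Cfsg.Lib.ExtraExt
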