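import Cfsg.Agent.ExtraExt.Basic
import Cfsg.Agent.Chars.Equivalence
import Cfsg.Agent.Chars.IrrTools

/-!
# The faithful representation of a group of extraspecial two-type
-/

namespace Cfsg.Lib.ExtraExt

open Module
open scoped ComplexConjugate
open Cfsg.Lib.Chars

universe u

variable {E : Type u} [Group E] {z : E} {V : Type*} [AddCommGroup V] [Module ℂ V]
  [FiniteDimensional ℂ V]

omit [FiniteDimensional ℂ V] in
theorem Extra.character_eq_zero (h : Extra E z) (ρ : Representation ℂ E V) (hρ : ρ z = -1) {x : E}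
    (hx : ¬ (x = 1 ∨ x = z)) : ρ.character x = 0 := by
  obtain ⟨y, hy⟩ : ∃ y, x * y ≠ y * x := by
    by_contra hc
    push Not at hc
    exact hx (h.center x hc)
  have h1 : y⁻¹ * x * y = z * x := by
    rw [mul_assoc, (h.comm x y).resolve_left hy, ← mul_assoc y⁻¹,
      show y⁻¹ * z = z * y⁻¹ from (h.mul_comm_z _).symm, mul_assoc, inv_mul_cancel_left]
  have h2 : ρ.character (y⁻¹ * x * y) = ρ.character x := by
    have := ρ.char_conj x y⁻¹
    rwa [inv_inv] at this
  have h3 : ρ.character (z * x) = -ρ.character x := by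
    rw [Representation.character, Representation.character, map_mul, hρ, neg_one_mul, map_neg]
  rw [h1, h3] at h2
  linear_combination (-1 / 2 : ℂ) * h2

theorem Extra.character_z (ρ : Representation ℂ E V) (hρ : ρ z = -1) :
    ρ.character z = -(finrank ℂ V : ℂ) := by
  rw [Representation.character, hρ, map_neg, LinearMap.trace_one]

open Classical in
theorem Extra.character_apply (h : Extra E z) (ρ : Representation ℂ E V) (hρ : ρ z = -1) (x : E) :
    ρ.character x * conj (ρ.character x) =
      if x = 1 ∨ x = z then (finrank ℂ V : ℂ) ^ 2 else 0 := by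
  by_cases hx : x = 1 ∨ x = z
  · rw [if_pos hx]
    rcases hx with rfl | rfl
    · rw [ρ.char_one, map_natCast]; ring
    · rw [Extra.character_z ρ hρ, map_neg, map_natCast]; ring
  · rw [if_neg hx, h.character_eq_zero ρ hρ hx, zero_mul]

open Classical in
theorem Extra.card_eq [Finite E] (h : Extra E z) (ρ : Representation ℂ E V) [ρ.IsIrreducible]
    (hρ : ρ z = -1) : 2 * finrank ℂ V ^ 2 = Nat.card E := by
  have := Fintype.ofFinite E
  have hn := classInner_self_irr (isIrrCharacter_character ρ)
  rw [classInner_def, Finset.sum_congr rfl fun x _ => h.character_apply ρ hρ x,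
    ← Finset.sum_filter, Finset.sum_const, nsmul_eq_mul] at hn
  have hset : (Finset.univ.filter fun x : E => x = 1 ∨ x = z) = {1, z} := by
    ext x; simp
  rw [hset, Finset.card_pair h.ne.symm,
    inv_mul_eq_one₀ (by exact_mod_cast (Nat.card_pos (α := E)).ne')] at hn
  exact_mod_cast hn.symm

theorem Extra.exists_rep [Finite E] (h : Extra E z) :
    ∃ (m : ℕ) (ρ : Representation ℂ E (Fin m → ℂ)), ρ.IsIrreducible ∧ ρ z = -1 ∧
      2 * m ^ 2 = Nat.card E := by
  classical
  have := Fintype.ofFinite E
  obtain ⟨χ, hχ⟩ : ∃ χ : Cfsg.IrrCharacter E, (χ : E → ℂ) z ≠ (χ : E → ℂ) 1 := by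
    by_contra hc
    push Not at hc
    have hf : Cfsg.IsClassFunction E (fun x : E => if x = 1 then (1 : ℂ) else 0) := fun g x => by
      simp
    have e1 := classFunction_expand_apply hf z
    have e2 := classFunction_expand_apply hf 1
    simp only [if_neg h.ne, if_pos] at e1 e2
    rw [Finset.sum_congr rfl fun χ _ => by rw [hc χ], ← e2] at e1
    exact zero_ne_one e1
  obtain ⟨m, ρ, hirr, hρ⟩ := χ.2
  obtain ⟨c, hc⟩ := schur_scalar ρ (ρ z) fun g v => by
    rw [← Module.End.mul_apply, ← Module.End.mul_apply, ← map_mul, ← map_mul, h.mul_comm_z]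
  have hc1 : c ≠ 1 := by
    intro h1
    apply hχ
    rw [← hρ, Representation.character, Representation.character, hc, h1, one_smul, map_one]
    rfl
  have hm := finrank_pos_of_irreducible ρ
  have hcc : c * c = 1 := by
    have h2 : ρ z * ρ z = 1 := by rw [← map_mul, h.sq, map_one]
    rw [hc] at h2
    have h3 := congrArg (LinearMap.trace ℂ _) h2
    rw [smul_mul_smul_comm, show (LinearMap.id : (Fin m → ℂ) →ₗ[ℂ] _) * LinearMap.id = 1 from rfl,
      map_smul, LinearMap.trace_one, smul_eq_mul] at h3
    exact mul_eq_right₀ (by exact_mod_cast hm.ne') |>.mp h3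
  have hz : ρ z = -1 := by
    rw [hc, (mul_self_eq_one_iff.mp hcc).resolve_left hc1]
    exact neg_one_smul ℂ (1 : Module.End ℂ (Fin m → ℂ))
  refine ⟨m, ρ, hirr, hz, ?_⟩
  have h4 := h.card_eq ρ hz
  rwa [finrank_fin_fun] at h4

/-- Two such representations of the right dimension are equivalent. -/
theorem Extra.nonempty_equiv [Finite E] (h : Extra E z) {W : Type*} [AddCommGroup W] [Module ℂ W]
    [FiniteDimensional ℂ W] (ρ : Representation ℂ E V) (σ : Representation ℂ E W)
    (hρ : ρ z = -1) (hσ : σ z = -1) (hd : finrank ℂ V = finrank ℂ W) :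
    Nonempty (ρ.Equiv σ) := by
  refine nonempty_equiv_of_character_eq _ _ ρ σ (funext fun x => ?_)
  by_cases hx : x = 1 ∨ x = z
  · rcases hx with rfl | rfl
    · rw [ρ.char_one, σ.char_one, hd]
    · rw [Extra.character_z ρ hρ, Extra.character_z σ hσ, hd]
  · rw [h.character_eq_zero ρ hρ hx, h.character_eq_zero σ hσ hx]

end Cfsg.Lib.ExtraExt
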