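import Cfsg.Agent.ExtraExt.Rep

/-!
# Normalised intertwiners of the automorphisms
-/

namespace Cfsg.Lib.ExtraExt

open Module
open scoped ComplexConjugate
open Cfsg.Lib.Chars

universe u

variable {E : Type u} [Group E] {z : E} {m : ℕ} (ρ : Representation ℂ E (Fin m → ℂ))

/-- Automorphisms with an intertwiner of determinant one. -/
def tgroup : Subgroup (MulAut E × (Module.End ℂ (Fin m → ℂ))ˣ) where
  carrier := {p | (∀ e : E, (p.2 : Module.End ℂ (Fin m → ℂ)) * ρ e = ρ (p.1 e) * p.2) ∧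
    LinearMap.det (p.2 : Module.End ℂ (Fin m → ℂ)) = 1}
  one_mem' := ⟨fun e => by simp, by simp⟩
  mul_mem' := fun {a b} ha hb => ⟨fun e => by
    simp only [Prod.snd_mul, Prod.fst_mul, Units.val_mul, MulAut.mul_apply]
    rw [mul_assoc, hb.1, ← mul_assoc, ha.1, mul_assoc],
    by rw [Prod.snd_mul, Units.val_mul, map_mul, ha.2, hb.2, one_mul]⟩
  inv_mem' := fun {a} ha => ⟨fun e => by
    simp only [Prod.snd_inv, Prod.fst_inv]
    rw [Units.inv_mul_eq_iff_eq_mul, ← mul_assoc, ha.1 (a.1⁻¹ e), MulAut.apply_inv_self, mul_assoc,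
      Units.mul_inv, mul_one],
    by
      have h := congrArg LinearMap.det
        (Units.mul_inv a.2 : (a.2 : Module.End ℂ (Fin m → ℂ)) * ↑a.2⁻¹ = 1)
      rw [map_mul, ha.2, one_mul, map_one] at h
      exact h⟩

/-- The projection to the automorphism group. -/
def tproj : tgroup ρ →* MulAut E := (MonoidHom.fst _ _).comp (tgroup ρ).subtype

/-- The natural representation. -/
def tnat : Representation ℂ (tgroup ρ) (Fin m → ℂ) :=
  (Units.coeHom _).comp ((MonoidHom.snd _ _).comp (tgroup ρ).subtype)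

theorem tnat_twist (x : tgroup ρ) (e : E) :
    tnat ρ x * ρ e = ρ (tproj ρ x e) * tnat ρ x := x.2.1 e

theorem tgroup_ext {x y : tgroup ρ} (h1 : tproj ρ x = tproj ρ y) (h2 : tnat ρ x = tnat ρ y) :
    x = y := Subtype.ext (Prod.ext h1 (Units.ext h2))

variable [ρ.IsIrreducible]

include ρ in
theorem tgroup_dim_pos : 0 < m := by
  have := finrank_pos_of_irreducible ρ
  rwa [finrank_fin_fun] at this

theorem tnat_ker {x : tgroup ρ} (hx : tproj ρ x = 1) :
    ∃ c : ℂ, c ^ m = 1 ∧ tnat ρ x = c • 1 := by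
  obtain ⟨c, hc⟩ := schur_scalar ρ (tnat ρ x) fun g v => by
    rw [← Module.End.mul_apply, ← Module.End.mul_apply, tnat_twist, hx]
    rfl
  have hd : LinearMap.det (tnat ρ x) = 1 := x.2.2
  rw [hc, LinearMap.det_smul, LinearMap.det_id, mul_one, finrank_fin_fun] at hd
  exact ⟨c, hd, hc⟩

variable [Finite E]

instance finite_tgroup : Finite (tgroup ρ) := by
  have hm := tgroup_dim_pos ρ
  have hker : Finite (tproj ρ).ker := by
    have hroots : {c : ℂ | c ^ m = 1}.Finite :=
      Set.Finite.subset (Polynomial.nthRootsFinset m (1 : ℂ)).finite_toSet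
        fun c hc => (Polynomial.mem_nthRootsFinset hm (1 : ℂ)).mpr hc
    refine Set.Finite.to_subtype (Set.Finite.of_finite_image (f := fun x => tnat ρ x) ?_ ?_)
    · refine (hroots.image fun c : ℂ => c • (1 : Module.End ℂ (Fin m → ℂ))).subset ?_
      rintro _ ⟨x, hx, rfl⟩
      obtain ⟨c, hc, hxc⟩ := tnat_ker ρ (x := x) hx
      exact ⟨c, hc, hxc.symm⟩
    · intro x hx y hy h
      exact tgroup_ext ρ ((show tproj ρ x = 1 from hx).trans (show tproj ρ y = 1 from hy).symm) h
  have : Finite (tgroup ρ ⧸ (tproj ρ).ker) :=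
    Finite.of_injective (QuotientGroup.kerLift (tproj ρ)) (QuotientGroup.kerLift_injective _)
  exact Finite.of_subgroup_quotient (tproj ρ).ker

theorem tproj_surjective (h : Extra E z) (hρ : ρ z = -1) : Function.Surjective (tproj ρ) := by
  intro φ
  let σ : Representation ℂ E (Fin m → ℂ) := ρ.comp φ.toMonoidHom
  have hσ : σ z = -1 := by
    show ρ (φ z) = -1
    rw [h.aut_z, hρ]
  obtain ⟨ψ⟩ := h.nonempty_equiv ρ σ hρ hσ rfl
  let A : (Module.End ℂ (Fin m → ℂ))ˣ :=
    (LinearMap.GeneralLinearGroup.generalLinearEquiv ℂ _).symm ψ.toLinearEquiv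
  have hA : ∀ e, (A : Module.End ℂ (Fin m → ℂ)) * ρ e = ρ (φ e) * A := fun e =>
    LinearMap.ext fun v => Representation.IntertwiningMap.isIntertwining _ _ ψ.toIntertwiningMap e v
  have hdet : LinearMap.det (A : Module.End ℂ (Fin m → ℂ)) ≠ 0 :=
    (A.isUnit.map LinearMap.det).ne_zero
  obtain ⟨c, hc⟩ := IsAlgClosed.exists_pow_nat_eq (LinearMap.det (A : Module.End ℂ (Fin m → ℂ)))⁻¹
    (tgroup_dim_pos ρ)
  have hc0 : c ≠ 0 := by
    rintro rfl
    rw [zero_pow (tgroup_dim_pos ρ).ne'] at hc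
    exact hdet (inv_eq_zero.mp hc.symm)
  let B : (Module.End ℂ (Fin m → ℂ))ˣ :=
    Units.map (algebraMap ℂ (Module.End ℂ (Fin m → ℂ))).toMonoidHom (Units.mk0 c hc0) * A
  have hB : (B : Module.End ℂ (Fin m → ℂ)) = c • (A : Module.End ℂ (Fin m → ℂ)) := by
    simp [B, Algebra.smul_def]
  refine ⟨⟨(φ, B), fun e => ?_, ?_⟩, rfl⟩
  · show (B : Module.End ℂ (Fin m → ℂ)) * ρ e = ρ (φ e) * B
    rw [hB, smul_mul_assoc, hA, mul_smul_comm]
  · show LinearMap.det (B : Module.End ℂ (Fin m → ℂ)) = 1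
    rw [hB, LinearMap.det_smul, finrank_fin_fun, hc, inv_mul_cancel₀ hdet]

open Classical in
/-- An intertwiner over an automorphism without fixed noncentral cosets has a unitary trace. -/
theorem norm_character_tnat (h : Extra E z) (hρ : ρ z = -1) (x : tgroup ρ)
    (hfix : ∀ w : E, tproj ρ x w = w ∨ tproj ρ x w = z * w → w = 1 ∨ w = z) :
    (tnat ρ).character x * conj ((tnat ρ).character x) = 1 := by
  have := Fintype.ofFinite E
  have hm : (m : ℂ) ≠ 0 := by exact_mod_cast (tgroup_dim_pos ρ).ne'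
  rw [← Cfsg.Lib.Chars.character_inv]
  set g := tnat ρ x with hg
  set Y : Module.End ℂ (Fin m → ℂ) := ∑ w : E, ρ w * g * ρ w⁻¹ with hY
  obtain ⟨c, hc⟩ := schur_scalar ρ Y fun v u => by
    rw [← Module.End.mul_apply, ← Module.End.mul_apply]
    congr 1
    rw [hY, Finset.sum_mul, Finset.mul_sum]
    refine (Fintype.sum_equiv (Equiv.mulLeft v) _ _ fun w => ?_).symm
    simp only [Equiv.coe_mulLeft, mul_inv_rev, map_mul, mul_assoc]
    rw [← map_mul ρ v⁻¹ v, inv_mul_cancel, map_one, mul_one]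
  have e1 : c * m = (Nat.card E : ℂ) * LinearMap.trace ℂ _ g := by
    have e := congrArg (LinearMap.trace ℂ (Fin m → ℂ)) hc
    rw [hY, map_sum, map_smul, smul_eq_mul, LinearMap.trace_id, finrank_fin_fun,
      Finset.sum_congr rfl fun w _ => show LinearMap.trace ℂ _ (ρ w * g * ρ w⁻¹) =
        LinearMap.trace ℂ _ g by
          rw [LinearMap.trace_mul_comm, ← mul_assoc, ← map_mul, inv_mul_cancel, map_one, one_mul],
      Finset.sum_const, Finset.card_univ, nsmul_eq_mul, ← Nat.card_eq_fintype_card] at e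
    exact e.symm
  have e2 : c * LinearMap.trace ℂ _ (tnat ρ x⁻¹) = 2 * m := by
    have e : Y * tnat ρ x⁻¹ = c • tnat ρ x⁻¹ := by
      rw [hc, smul_mul_assoc]; exact congrArg (c • ·) (one_mul _)
    have e' : Y * tnat ρ x⁻¹ = ∑ w : E, ρ (w * tproj ρ x w⁻¹) := by
      rw [hY, Finset.sum_mul]
      refine Finset.sum_congr rfl fun w _ => ?_
      rw [mul_assoc (ρ w), hg, tnat_twist, ← mul_assoc, ← map_mul, mul_assoc, ← map_mul (tnat ρ),
        mul_inv_cancel, map_one, mul_one]
    have e3 := congrArg (LinearMap.trace ℂ (Fin m → ℂ)) (e.symm.trans e')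
    rw [map_smul, smul_eq_mul, map_sum] at e3
    rw [e3]
    have hval : ∀ w : E, LinearMap.trace ℂ _ (ρ (w * tproj ρ x w⁻¹)) =
        if w = 1 ∨ w = z then (m : ℂ) else 0 := by
      intro w
      by_cases hw : w = 1 ∨ w = z
      · rw [if_pos hw]
        have hfw : tproj ρ x w = w := by
          rcases hw with rfl | rfl
          · exact map_one _
          · exact h.aut_z _
        rw [map_inv, hfw, mul_inv_cancel, map_one, LinearMap.trace_one, finrank_fin_fun]
      · rw [if_neg hw]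
        refine h.character_eq_zero ρ hρ fun hq => hw (hfix w ?_)
        rw [map_inv] at hq
        rcases hq with hq | hq
        · exact Or.inl (mul_inv_eq_one.mp hq).symm
        · rw [mul_inv_eq_iff_eq_mul] at hq
          refine Or.inr ?_
          conv_rhs => rw [hq, ← mul_assoc, h.sq, one_mul]
    rw [Finset.sum_congr rfl fun w _ => hval w, ← Finset.sum_filter, Finset.sum_const, nsmul_eq_mul,
      show (Finset.univ.filter fun w : E => w = 1 ∨ w = z) = {1, z} by ext w; simp,
      Finset.card_pair h.ne.symm]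
    norm_num
  have hcard : (Nat.card E : ℂ) = 2 * (m : ℂ) ^ 2 := by
    have h4 := h.card_eq ρ hρ
    rw [finrank_fin_fun] at h4
    exact_mod_cast h4.symm
  rw [hcard] at e1
  have ec : c = 2 * m * LinearMap.trace ℂ _ g := mul_right_cancel₀ hm (by rw [e1]; ring)
  rw [ec] at e2
  show LinearMap.trace ℂ _ (tnat ρ x) * LinearMap.trace ℂ _ (tnat ρ x⁻¹) = 1
  exact mul_left_cancel₀ (mul_ne_zero two_ne_zero hm) (by rw [mul_one, ← mul_assoc]; exact e2)

end Cfsg.Lib.ExtraExt
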